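import Cfsg.Agent.Lib.E6Iso.Check
import Cfsg.Agent.Lib.Chev.SimpleGen

/-!
# The adjoint representation of the group of root elements of the cubic form

The root group normalises the span of 78 matrices; in this basis it becomes the group of the type E6 tables.
-/

set_option autoImplicit false

namespace Cfsg.Agent.E6Iso

open scoped Matrix
open Cfsg.Lie Cfsg.Agent.Chev

theorem pairL_eq (L M : Sparse) :
    L.foldr (fun e s => e.2.2 * coefB M e.1 e.2.1 + s) 0 = pairL L M := by
  induction L with
  | nil => rfl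
  | cons e L ih => simp [pairL, coefB_eq] at ih ⊢; rw [ih]

theorem basis_ok : ∀ n : Fin 78, inRange (basisL n.val) = true ∧ inRange (coordL n.val) = true ∧
    ∀ m : Fin 78, pairL (coordL n.val) (basisL m.val) = if n = m then 1 else 0 := fun n => by
  refine ⟨(basis_range n).1, (basis_range n).2, fun m => ?_⟩
  have h := List.all_eq_true.1 (List.all_eq_true.1 coord_ok n.val (List.mem_range.2 n.2)) m.val
    (List.mem_range.2 m.2)
  rw [intBeq_iff, pairL_eq] at h
  rw [h]
  by_cases e : n = m
  · simp [e]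
  · have : Nat.beq n.val m.val = false :=
      Bool.eq_false_iff.2 fun h => e (Fin.ext (Nat.eq_of_beq_eq_true h))
    simp [e, this]

/-- Membership in the list of generators. -/
def IsGen (r : ℕ) : Prop := r ∈ genRoots

theorem IsGen.lt {r : ℕ} (h : IsGen r) : r < 72 := by
  simpa [Nat.blt_eq] using List.all_eq_true.1 gen_ok.2.1 r h

theorem chk_gen {r : ℕ} (h : IsGen r) : (List.range 78).all (chkAd r) = true := by
  obtain ⟨i, hi, rfl⟩ := List.getElem_of_mem h
  rw [gen_ok.1] at hi
  rw [← List.getD_eq_getElem genRoots 0]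
  interval_cases i
  · exact chk_gen0
  · exact chk_gen1
  · exact chk_gen2
  · exact chk_gen3
  · exact chk_gen4
  · exact chk_gen5
  · exact chk_gen6
  · exact chk_gen7
  · exact chk_gen8
  · exact chk_gen9
  · exact chk_gen10
  · exact chk_gen11

theorem adjoint_ok {r : ℕ} (hr : IsGen r) {n : ℕ} (hn : n < 78) :
    (∀ y ∈ E6.cert.col r n, y.2.1 < 3 ∧ y.1 < 78) ∧
    sameL (comb r n 0) (basisL n) = true ∧
    sameL (comb r n 1) (mulL (rootN r) (basisL n) ++ scaleL (-1) (mulL (basisL n) (rootN r))) = true ∧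
    sameL (comb r n 2) (scaleL (-1) (mulL (mulL (rootN r) (basisL n)) (rootN r))) = true ∧
    inRange (mulL (rootN r) (basisL n)) = true := by
  have h := List.all_eq_true.1 (chk_gen hr) n (List.mem_range.2 hn)
  simp only [chkAd, Bool.and_eq_true, List.all_eq_true, Nat.blt_eq] at h
  obtain ⟨⟨⟨⟨h0, h1⟩, h2⟩, h3⟩, h4⟩ := h
  exact ⟨h0, sameL_of_sameB h1, sameL_of_sameB h2, sameL_of_sameB h3, h4⟩

theorem pos_lt (k : J) : idxNat k < 78 := idxNat_lt k

theorem exists_pos {n : ℕ} (hn : n < 78) : ∃ k : J, idxNat k = n := by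
  by_cases h : n < 6
  · exact ⟨.inl ⟨n, h⟩, rfl⟩
  · refine ⟨.inr ⟨n - 6, show n - 6 < 72 by omega⟩, ?_⟩
    show 6 + (n - 6) = n
    omega

variable {F : Type*} [Field F]

/-- A basis element of the Lie algebra. -/
def bmat (n : ℕ) : Matrix I27 I27 F := toMat (basisL n)

theorem sum_smul_comb (t : F) : ∀ L : List (ℕ × ℕ × ℤ), (∀ y ∈ L, y.2.1 < 3) →
    (L.map fun y => ((y.2.2 : F) * t ^ y.2.1) • bmat y.1).sum =
      toMat (L.flatMap fun y => if y.2.1 = 0 then scaleL y.2.2 (basisL y.1) else []) +
        t • toMat (L.flatMap fun y => if y.2.1 = 1 then scaleL y.2.2 (basisL y.1) else []) +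
          t ^ 2 • toMat (F := F) (L.flatMap fun y => if y.2.1 = 2 then scaleL y.2.2 (basisL y.1) else [])
  | [], _ => by simp [toMat_nil]
  | y :: L, h => by
    have hy := h y (List.mem_cons_self ..)
    have ih := sum_smul_comb t L fun z hz => h z (List.mem_cons_of_mem _ hz)
    simp only [List.map_cons, List.sum_cons, List.flatMap_cons, toMat_append, ih]
    rcases (show y.2.1 = 0 ∨ y.2.1 = 1 ∨ y.2.1 = 2 by omega) with e | e | e <;>
      simp [e, toMat_nil, toMat_scaleL, bmat] <;> module

theorem conj_bmat {r : ℕ} (hr : IsGen r) {n : ℕ} (hn : n < 78) (t : F) :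
    (xel r t : GL I27 F).val * bmat n * ((xel r t)⁻¹ : GL I27 F).val =
      ((E6.cert.col r n).map fun y => ((y.2.2 : F) * t ^ y.2.1) • bmat y.1).sum := by
  obtain ⟨hd, h0, h1, h2, hin⟩ := adjoint_ok hr hn
  have hB := (basis_ok ⟨n, hn⟩).1
  have hA := rootN_inRange r
  rw [sum_smul_comb t _ fun y hy => (hd y hy).1]
  rw [show toMat (F := F) (List.flatMap _ (E6.cert.col r n)) = _ from toMat_eq_of_sameL h0]
  rw [show toMat (F := F) (List.flatMap _ (E6.cert.col r n)) = _ from toMat_eq_of_sameL h1]
  rw [show toMat (F := F) (List.flatMap _ (E6.cert.col r n)) = _ from toMat_eq_of_sameL h2]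
  simp only [toMat_append, toMat_scaleL, toMat_mulL hB hA, toMat_mulL hA hB, toMat_mulL hA hin]
  simp only [xel_inv, coe_xel, bmat, neg_smul, mul_add, add_mul, one_mul, mul_one, mul_neg,
    Matrix.smul_mul, Matrix.mul_smul, Int.cast_neg, Int.cast_one, smul_add, smul_smul, smul_neg, sq]
  module

variable (F) in
/-- The span of the basis. -/
def lie : Submodule F (Matrix I27 I27 F) := Submodule.span F (Set.range fun k : J => bmat (idxNat k))

theorem bmat_mem {n : ℕ} (hn : n < 78) : bmat (F := F) n ∈ lie F := by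
  obtain ⟨k, rfl⟩ := exists_pos hn
  exact Submodule.subset_span ⟨k, rfl⟩

/-- A coordinate. -/
def coord (k : J) (X : Matrix I27 I27 F) : F := evalL (coordL (idxNat k)) X

theorem coord_bmat (k : J) {n : ℕ} (hn : n < 78) :
    coord k (bmat (F := F) n) = if idxNat k = n then 1 else 0 := by
  obtain ⟨-, hc, h⟩ := basis_ok ⟨idxNat k, pos_lt k⟩
  rw [coord, bmat, evalL_toMat hc, h ⟨n, hn⟩]
  simp [Fin.ext_iff]

/-- The coordinate as a linear map. -/
def coordLin (k : J) : Matrix I27 I27 F →ₗ[F] F where
  toFun := coord k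
  map_add' X Y := evalL_add _ X Y
  map_smul' c X := by simp [coord, evalL_smul]

theorem lie_eq_sum {X : Matrix I27 I27 F} (hX : X ∈ lie F) :
    X = ∑ k : J, coord k X • bmat (idxNat k) := by
  induction hX using Submodule.span_induction with
  | mem X h =>
    obtain ⟨l, rfl⟩ := h
    simp only [coord_bmat _ (pos_lt l)]
    simp [idxNat_injective.eq_iff]
  | zero =>
    have h0 : ∀ k : J, coord k (0 : Matrix I27 I27 F) = 0 := fun k => (coordLin k).map_zero
    simp [h0]
  | add X Y _ _ hX hY =>
    have ha : ∀ k : J, coord k (X + Y) = coord k X + coord k Y := fun k => (coordLin k).map_add X Y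
    simp only [ha, add_smul, Finset.sum_add_distrib, ← hX, ← hY]
  | smul c X _ hX =>
    have hs : ∀ k : J, coord k (c • X) = c * coord k X := fun k => evalL_smul _ c X
    simp only [hs, mul_smul, ← Finset.smul_sum, ← hX]

variable (F) in
/-- The matrices normalising the span. -/
def normLie : Subgroup (GL I27 F) where
  carrier := {g | ∀ X ∈ lie F, g.val * X * (g⁻¹).val ∈ lie F ∧ (g⁻¹).val * X * g.val ∈ lie F}
  one_mem' X hX := by simp [hX]
  mul_mem' {g h} hg hh X hX := by
    have h1 := (hg _ (hh X hX).1).1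
    have h2 := (hh _ (hg X hX).2).2
    simp only [mul_inv_rev, Units.val_mul, mul_assoc] at h1 h2 ⊢
    exact ⟨h1, h2⟩
  inv_mem' {g} hg X hX := by
    rw [inv_inv]
    exact ⟨(hg X hX).2, (hg X hX).1⟩

theorem xel_mem_normLie {r : ℕ} (hr : IsGen r) (t : F) : xel r t ∈ normLie F := by
  have key : ∀ s : F, ∀ X ∈ lie F, (xel r s).val * X * ((xel r s)⁻¹).val ∈ lie F := by
    intro s X hX
    induction hX using Submodule.span_induction with
    | mem X h =>
      obtain ⟨l, rfl⟩ := h
      rw [conj_bmat hr (pos_lt l)]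
      refine list_sum_mem fun Y hY => ?_
      obtain ⟨y, hy, rfl⟩ := List.mem_map.1 hY
      exact Submodule.smul_mem _ _ (bmat_mem ((adjoint_ok hr (pos_lt l)).1 y hy).2)
    | zero => simp
    | add X Y _ _ hX hY => rw [mul_add, add_mul]; exact add_mem hX hY
    | smul c X _ hX => rw [Matrix.mul_smul, Matrix.smul_mul]; exact Submodule.smul_mem _ _ hX
  intro X hX
  refine ⟨key t X hX, ?_⟩
  have h := key (-t) X hX
  rwa [← xel_inv, inv_inv] at h

theorem witness_comm {w : ℕ × ℕ × ℕ × ℤ} (hw : w ∈ witness) (a b : F) :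
    xel w.2.1 a * xel w.2.2.1 b * (xel w.2.1 a)⁻¹ * (xel w.2.2.1 b)⁻¹ =
      xel w.1 ((w.2.2.2 : F) * (a * b)) := by
  have h := List.all_eq_true.1 witness_ok w hw
  simp only [chkWit, Bool.and_eq_true, Bool.or_eq_true] at h
  obtain ⟨⟨⟨⟨⟨⟨h1, h2⟩, h3⟩, h4⟩, h5⟩, -⟩, -⟩ := h
  set A : Matrix I27 I27 F := toMat (rootN w.2.1)
  set B : Matrix I27 I27 F := toMat (rootN w.2.2.1)
  have hA := rootN_inRange w.2.1
  have hB := rootN_inRange w.2.2.1
  have eC : A * B - B * A = (w.2.2.2 : F) • toMat (rootN w.1) := by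
    have := toMat_eq_of_sameL (F := F) (sameL_of_sameB h1)
    simp only [toMat_append, toMat_scaleL, toMat_mulL hA hB, toMat_mulL hB hA, Int.cast_neg, Int.cast_one,
      neg_smul, one_smul] at this
    rw [← this, sub_eq_add_neg]
  have eA : A * B * A = 0 := by
    have := toMat_eq_of_sameL (F := F) (sameL_of_sameB h2)
    rwa [toMat_mulL hA h4, toMat_mulL hB hA, toMat_nil] at this
  have eB : B * A * B = 0 := by
    have := toMat_eq_of_sameL (F := F) (sameL_of_sameB h3)
    rwa [toMat_mulL hB h5, toMat_mulL hA hB, toMat_nil] at this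
  have aA : A * A = 0 := rootMat_sq _
  have bB : B * B = 0 := rootMat_sq _
  refine Units.ext ?_
  have h1' : ((xel w.2.1 a * xel w.2.2.1 b * (xel w.2.1 a)⁻¹ : GL I27 F) : Matrix I27 I27 F) =
      1 + b • B + (a * b) • (A * B - B * A) := by
    simp only [xel_inv, Units.val_mul, coe_xel, neg_smul, mul_add, add_mul, one_mul, mul_one, mul_neg,
      Matrix.smul_mul, Matrix.mul_smul, smul_smul, mul_assoc, smul_add, smul_neg, smul_sub]
    rw [show A * (B * A) = 0 from by rw [← mul_assoc]; exact eA, aA]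
    module
  rw [Units.val_mul, h1', xel_inv, coe_xel, coe_xel, show toMat (F := F) (rootN w.2.2.1) = B from rfl,
    mul_comm (w.2.2.2 : F) (a * b), mul_smul (a * b) (w.2.2.2 : F), ← eC]
  simp only [neg_smul, mul_add, add_mul, sub_mul, one_mul, mul_one, mul_neg, Matrix.smul_mul,
    Matrix.mul_smul, smul_smul, mul_assoc, bB, mul_zero, smul_zero, smul_sub]
  rw [show B * (A * B) = 0 from by rw [← mul_assoc]; exact eB]
  module

theorem mem_of_order {K : Subgroup (GL I27 F)} : ∀ (l : List (ℕ × ℕ × ℕ × ℤ)) (known : List ℕ),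
    chkOrder known l = true → (∀ w ∈ l, w ∈ witness) → (∀ r ∈ known, ∀ t : F, xel r t ∈ K) →
      ∀ r < 72, ∀ t : F, xel r t ∈ K
  | [], known, h, _, hK, r, hr => hK r (by
      simpa using List.all_eq_true.1 h r (List.mem_range.2 hr))
  | w :: l, known, h, hl, hK, r, hr => by
    simp only [chkOrder, Bool.and_eq_true, List.contains_iff_mem] at h
    refine mem_of_order l _ h.2 (fun x hx => hl x (List.mem_cons_of_mem _ hx)) ?_ r hr
    intro s hs t
    rcases List.mem_cons.1 hs with rfl | hs
    · have hw := List.all_eq_true.1 witness_ok w (hl w (List.mem_cons_self ..))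
      simp only [chkWit, Bool.and_eq_true, Bool.or_eq_true, intBeq_iff] at hw
      have hc : (w.2.2.2 : F) * w.2.2.2 = 1 := by rcases hw.2 with e | e <;> simp [e]
      have e := witness_comm (hl w (List.mem_cons_self ..)) ((w.2.2.2 : F) * t) 1
      rw [mul_one, ← mul_assoc, hc, one_mul] at e
      rw [← e]
      exact mul_mem (mul_mem (mul_mem (hK _ h.1.1 _) (hK _ h.1.2 _)) (inv_mem (hK _ h.1.1 _)))
        (inv_mem (hK _ h.1.2 _))
    · exact hK s hs t

theorem rootGroup_le_of_gen {K : Subgroup (GL I27 F)} (h : ∀ r, IsGen r → ∀ t : F, xel r t ∈ K) :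
    rootGroup F ≤ K := by
  rw [rootGroup, Subgroup.closure_le]
  rintro _ ⟨r, hr, t, rfl⟩
  exact mem_of_order witness genRoots order_ok (fun w hw => hw) h r hr t

theorem rootGroup_le_normLie : rootGroup F ≤ normLie F :=
  rootGroup_le_of_gen fun _ hr t => xel_mem_normLie hr t

/-- The matrix of conjugation. -/
def adMat (g : GL I27 F) : Matrix J J F :=
  Matrix.of fun k l => coord k (g.val * bmat (idxNat l) * (g⁻¹).val)

variable (F) in
/-- Conjugation as a monoid homomorphism. -/
def adHom : ↥(normLie F) →* Matrix J J F where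
  toFun g := adMat g.1
  map_one' := by
    ext k l
    simp [adMat, coord_bmat k (pos_lt l), Matrix.one_apply, idxNat_injective.eq_iff]
  map_mul' g h := by
    ext k l
    have hl := (h.2 _ (bmat_mem (F := F) (pos_lt l))).1
    simp only [adMat, Matrix.of_apply, Matrix.mul_apply, Subgroup.coe_mul, mul_inv_rev, Units.val_mul]
    set X := (h : GL I27 F).val * bmat (idxNat l) * ((h : GL I27 F)⁻¹).val with hX
    have e : (g : GL I27 F).val * (h : GL I27 F).val * bmat (idxNat l) *
        (((h : GL I27 F)⁻¹).val * ((g : GL I27 F)⁻¹).val) =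
        (g : GL I27 F).val * X * ((g : GL I27 F)⁻¹).val := by
      simp only [hX, mul_assoc]
    rw [e]
    conv_lhs => rw [lie_eq_sum hl, Matrix.mul_sum, Matrix.sum_mul]
    change coordLin k _ = _
    rw [map_sum]
    refine Finset.sum_congr rfl fun j _ => ?_
    rw [Matrix.mul_smul, Matrix.smul_mul, map_smul, smul_eq_mul, mul_comm]
    rfl

variable (F) in
/-- The adjoint representation on the root group. -/
def rho : ↥(rootGroup F) →* GL J F :=
  ((adHom F).comp (Subgroup.inclusion rootGroup_le_normLie)).toHomUnits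

theorem coe_rho (g : ↥(rootGroup F)) : ((rho F g : GL J F) : Matrix J J F) = adMat g.1 := rfl

theorem rho_xel {r : ℕ} (hr : IsGen r) (t : F) :
    rho F ⟨xel r t, xel_mem_rootGroup hr.lt t⟩ = xg chevE6 F r t := by
  refine E6.good.eq_xg (Matrix.ext fun k l => ?_)
  rw [coe_rho, adMat, Matrix.of_apply, conj_bmat hr (pos_lt l)]
  have h : chevE6.x F r t k l = (chevE6.x F r t *ᵥ bvec chevE6 F (idxNat l)) k := by
    rw [bvec_idxNat, Matrix.mulVec_single_one]; rfl
  rw [h, E6.valid.mulVec_bvec (show r < chevE6.nroots from hr.lt), colSem, list_sum_map_apply]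
  change coordLin k _ = _
  rw [map_list_sum, List.map_map]
  refine congrArg List.sum (List.map_congr_left fun y hy => ?_)
  rw [Function.comp_apply, map_smul]
  change _ • coord k (bmat y.1) = _
  rw [coord_bmat k ((adjoint_ok hr (pos_lt l)).1 y hy).2]
  rfl

theorem rho_range : (rho F).range = chevE6.group F := by
  refine le_antisymm ?_ ?_
  · rintro _ ⟨⟨g, hg⟩, rfl⟩
    have key : rootGroup F ≤ ((chevE6.group F).comap (rho F)).map (rootGroup F).subtype := by
      refine rootGroup_le_of_gen fun r hr t => ⟨⟨xel r t, xel_mem_rootGroup hr.lt t⟩, ?_, rfl⟩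
      show rho F _ ∈ chevE6.group F
      rw [rho_xel hr]
      exact E6.good.xg_mem_group _ t
    obtain ⟨x, hx, hxg⟩ := key hg
    obtain rfl : x = ⟨g, hg⟩ := Subtype.ext hxg
    exact hx
  · refine E6.good.group_le_of_simple (fun i hi t => ?_) (fun i hi t => ?_)
    · obtain ⟨h1, -⟩ := gen_ok.2.2 ⟨i, hi⟩
      have hm : IsGen (genRoots.getD i 0) := by
        rw [IsGen, List.getD_eq_getElem _ _ (by rw [gen_ok.1]; exact Nat.lt_of_lt_of_le hi (by decide))]
        exact List.getElem_mem _
      exact ⟨_, (rho_xel hm t).trans (by rw [ChevalleyDatum.simple, ← h1])⟩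
    · obtain ⟨-, h2⟩ := gen_ok.2.2 ⟨i, hi⟩
      have hi6 : i < 6 := hi
      have hm : IsGen (genRoots.getD (i + 6) 0) := by
        rw [IsGen, List.getD_eq_getElem _ _ (by rw [gen_ok.1]; omega)]
        exact List.getElem_mem _
      exact ⟨_, (rho_xel hm t).trans (by rw [ChevalleyDatum.neg, ChevalleyDatum.simple, ← h2])⟩

theorem rho_ker : (rho F).ker = Subgroup.center ↥(rootGroup F) := by
  ext g
  rw [MonoidHom.mem_ker]
  constructor
  · intro hg
    have hcomm : ∀ r < 72, ((g : GL I27 F)).val * toMat (rootN r) = toMat (rootN r) * (g : GL I27 F).val := by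
      intro r hr
      obtain ⟨l, hl⟩ := exists_pos (show 6 + r < 78 by omega)
      have hm := ((rootGroup_le_normLie g.2) _ (bmat_mem (F := F) (pos_lt l))).1
      have h1 := lie_eq_sum hm
      have h2 : ∀ k, coord k ((g : GL I27 F).val * bmat (idxNat l) * ((g : GL I27 F)⁻¹).val) =
          if k = l then 1 else 0 := fun k => by
        have := congrArg (fun z : GL J F => (z : Matrix J J F) k l) hg
        simpa [coe_rho, adMat, Matrix.one_apply] using this
      simp only [h2, ite_smul, one_smul, zero_smul, Finset.sum_ite_eq', Finset.mem_univ, if_true] at h1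
      have h3 := congrArg (fun X => X * (g : GL I27 F).val) h1
      simp only [mul_assoc, Units.inv_mul, mul_one] at h3
      rwa [hl, bmat, root_basis ⟨r, hr⟩] at h3
    refine Subgroup.mem_center_iff.2 fun ⟨x, hx⟩ => Subtype.ext ?_
    show x * (g : GL I27 F) = g * x
    induction hx using Subgroup.closure_induction with
    | mem x hx =>
      obtain ⟨r, hr, t, rfl⟩ := hx
      refine Units.ext ?_
      simp [Units.val_mul, coe_xel, mul_add, add_mul, hcomm r hr]
    | one => simp
    | mul x y _ _ hx hy => exact (Commute.mul_left hx hy).eq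
    | inv x _ hx => exact (Commute.inv_left hx).eq
  · intro hg
    have hA : ∀ r < 72, (g : GL I27 F).val * toMat (rootN r) = toMat (rootN r) * (g : GL I27 F).val := by
      intro r hr
      have h := congrArg (fun z : ↥(rootGroup F) => ((z : GL I27 F) : Matrix I27 I27 F))
        (Subgroup.mem_center_iff.1 hg ⟨xel r 1, xel_mem_rootGroup hr 1⟩)
      simpa [Units.val_mul, coe_xel, mul_add, add_mul] using h.symm
    have hB : ∀ n < 78, (g : GL I27 F).val * bmat n = bmat n * (g : GL I27 F).val := by
      intro n hn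
      by_cases h6 : n < 6
      · obtain ⟨a, b, h⟩ := cartan_ok ⟨n, h6⟩
        rw [bmat, toMat_eq_of_sameL h, toMat_append, toMat_scaleL,
          toMat_mulL (rootN_inRange _) (rootN_inRange _), toMat_mulL (rootN_inRange _) (rootN_inRange _)]
        simp only [mul_add, add_mul, Matrix.mul_smul, Matrix.smul_mul]
        rw [← mul_assoc, hA _ a, mul_assoc, hA _ b, ← mul_assoc, ← mul_assoc (g : GL I27 F).val, hA _ b,
          mul_assoc (toMat (F := F) _) (g : GL I27 F).val, hA _ a, ← mul_assoc]
      · obtain ⟨r, hr⟩ := Nat.exists_eq_add_of_le (Nat.le_of_not_lt h6)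
        subst hr
        rw [bmat, root_basis ⟨r, by omega⟩]
        exact hA r (by omega)
    refine Units.ext (Matrix.ext fun k l => ?_)
    rw [coe_rho, adMat, Matrix.of_apply, hB _ (pos_lt l), mul_assoc, Units.mul_inv, mul_one,
      coord_bmat k (pos_lt l), Units.val_one, Matrix.one_apply]
    simp [idxNat_injective.eq_iff]

end Cfsg.Agent.E6Iso
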