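import Mathlib

/-!
# Tables for the cubic form description of the type E6 tables

Coordinates are numbered `9k+3i+j`; generated data.
-/

set_option autoImplicit false

namespace Cfsg.Agent.E6Iso

/-- The monomials of the cubic form. -/
def monT : List (ℤ × ℕ × ℕ × ℕ) :=
  [(1, 0, 4, 8), (-1, 0, 5, 7), (-1, 1, 3, 8), (1, 1, 5, 6), (1, 2, 3, 7), (-1, 2, 4, 6), (1, 9, 13, 17), (-1, 9, 14, 16), (-1, 10, 12, 17), (1, 10, 14, 15), (1, 11, 12, 16), (-1, 11, 13, 15), (1, 18, 22, 26), (-1, 18, 23, 25), (-1, 19, 21, 26), (1, 19, 23, 24), (1, 20, 21, 25), (-1, 20, 22, 24), (-1, 0, 9, 18), (-1, 0, 10, 21), (-1, 0, 11, 24), (-1, 1, 12, 18), (-1, 1, 13, 21), (-1, 1, 14, 24), (-1, 2, 15, 18), (-1, 2, 16, 21), (-1, 2, 17, 24), (-1, 3, 9, 19), (-1, 3, 10, 22), (-1, 3, 11, 25), (-1, 4, 12, 19), (-1, 4, 13, 22), (-1, 4, 14, 25), (-1, 5, 15, 19), (-1, 5, 16, 22), (-1, 5, 17, 25), (-1, 6, 9, 20), (-1, 6, 10, 23), (-1,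 6, 11, 26), (-1, 7, 12, 20), (-1, 7, 13, 23), (-1, 7, 14, 26), (-1, 8, 15, 20), (-1, 8, 16, 23), (-1, 8, 17, 26)]

/-- The nilpotent parts of the root elements. -/
def rootT : List (List (ℕ × ℕ × ℤ)) :=
  [
    [(1, 15, 1), (2, 12, -1), (10, 24, 1), (11, 21, -1), (19, 6, 1), (20, 3, -1)],
    [(4, 15, -1), (5, 12, 1), (10, 25, -1), (11, 22, 1), (18, 6, 1), (20, 0, -1)],
    [(10, 9, 1), (13, 12, 1), (16, 15, 1), (18, 21, -1), (19, 22, -1), (20, 23, -1)],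
    [(2, 22, 1), (5, 21, -1), (10, 7, 1), (13, 6, -1), (20, 17, -1), (26, 15, 1)],
    [(1, 22, -1), (4, 21, 1), (10, 8, 1), (16, 6, -1), (20, 14, 1), (26, 12, -1)],
    [(7, 15, -1), (8, 12, 1), (10, 26, -1), (11, 23, 1), (18, 3, -1), (19, 0, 1)],
    [(2, 0, -1), (5, 3, -1), (8, 6, -1), (9, 15, 1), (10, 16, 1), (11, 17, 1)],
    [(1, 0, 1), (4, 3, 1), (7, 6, 1), (9, 12, -1), (10, 13, -1), (11, 14, -1)],
    [(2, 23, -1), (8, 21, 1), (10, 4, 1), (13, 3, -1), (19, 17, -1), (25, 15, 1)],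
    [(1, 23, 1), (7, 21, -1), (10, 5, 1), (16, 3, -1), (19, 14, 1), (25, 12, -1)],
    [(1, 17, 1), (2, 14, -1), (9, 21, 1), (10, 18, -1), (25, 6, 1), (26, 3, -1)],
    [(5, 23, 1), (8, 22, -1), (10, 1, 1), (13, 0, -1), (18, 17, -1), (24, 15, 1)],
    [(4, 23, -1), (7, 22, 1), (10, 2, 1), (16, 0, -1), (18, 14, 1), (24, 12, -1)],
    [(4, 17, -1), (5, 14, 1), (9, 22, -1), (10, 19, 1), (24, 6, 1), (26, 0, -1)],
    [(10, 11, 1), (13, 14, 1), (16, 17, 1), (24, 21, -1), (25, 22, -1), (26, 23, -1)],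
    [(7, 17, -1), (8, 14, 1), (9, 23, -1), (10, 20, 1), (24, 3, -1), (25, 0, 1)],
    [(11, 9, 1), (14, 12, 1), (17, 15, 1), (18, 24, -1), (19, 25, -1), (20, 26, -1)],
    [(2, 25, 1), (5, 24, -1), (11, 7, 1), (14, 6, -1), (20, 16, 1), (23, 15, -1)],
    [(1, 25, -1), (4, 24, 1), (11, 8, 1), (17, 6, -1), (20, 13, -1), (23, 12, 1)],
    [(0, 15, 1), (2, 9, -1), (13, 24, -1), (14, 21, 1), (19, 7, -1), (20, 4, 1)],
    [(0, 12, -1), (1, 9, 1), (16, 24, -1), (17, 21, 1), (19, 8, -1), (20, 5, 1)],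
    [(0, 6, 1), (1, 7, 1), (2, 8, 1), (20, 18, -1), (23, 21, -1), (26, 24, -1)],
    [(2, 26, 1), (8, 24, -1), (11, 4, -1), (14, 3, 1), (19, 16, -1), (22, 15, 1)],
    [(1, 26, -1), (7, 24, 1), (11, 5, -1), (17, 3, 1), (19, 13, 1), (22, 12, -1)],
    [(1, 16, 1), (2, 13, -1), (9, 24, -1), (11, 18, 1), (22, 6, 1), (23, 3, -1)],
    [(0, 3, 1), (1, 4, 1), (2, 5, 1), (19, 18, -1), (22, 21, -1), (25, 24, -1)],
    [(3, 15, -1), (5, 9, 1), (13, 25, 1), (14, 22, -1), (18, 7, -1), (20, 1, 1)],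
    [(3, 12, 1), (4, 9, -1), (16, 25, 1), (17, 22, -1), (18, 8, -1), (20, 2, 1)],
    [(3, 6, -1), (4, 7, -1), (5, 8, -1), (20, 19, 1), (23, 22, 1), (26, 25, 1)],
    [(0, 22, -1), (3, 21, 1), (13, 8, -1), (16, 7, 1), (20, 11, 1), (26, 9, -1)],
    [(5, 26, 1), (8, 25, -1), (11, 1, 1), (14, 0, -1), (18, 16, 1), (21, 15, -1)],
    [(4, 26, -1), (7, 25, 1), (11, 2, 1), (17, 0, -1), (18, 13, -1), (21, 12, 1)],
    [(4, 16, 1), (5, 13, -1), (9, 25, -1), (11, 19, 1), (21, 6, -1), (23, 0, 1)],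
    [(6, 15, 1), (8, 9, -1), (13, 26, -1), (14, 23, 1), (18, 4, -1), (19, 1, 1)],
    [(6, 12, -1), (7, 9, 1), (16, 26, -1), (17, 23, 1), (18, 5, -1), (19, 2, 1)],
    [(2, 1, 1), (5, 4, 1), (8, 7, 1), (12, 15, -1), (13, 16, -1), (14, 17, -1)],
    [(1, 2, 1), (4, 5, 1), (7, 8, 1), (15, 12, -1), (16, 13, -1), (17, 14, -1)],
    [(2, 19, 1), (5, 18, -1), (9, 7, 1), (12, 6, -1), (23, 17, 1), (26, 16, -1)],
    [(1, 19, 1), (4, 18, -1), (9, 8, -1), (15, 6, 1), (23, 14, 1), (26, 13, -1)],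
    [(0, 23, 1), (6, 21, -1), (13, 5, -1), (16, 4, 1), (19, 11, 1), (25, 9, -1)],
    [(0, 17, -1), (2, 11, 1), (12, 21, 1), (13, 18, -1), (25, 7, 1), (26, 4, -1)],
    [(0, 14, -1), (1, 11, 1), (15, 21, -1), (16, 18, 1), (25, 8, -1), (26, 5, 1)],
    [(7, 16, 1), (8, 13, -1), (9, 26, -1), (11, 20, 1), (21, 3, 1), (22, 0, -1)],
    [(6, 3, -1), (7, 4, -1), (8, 5, -1), (19, 20, 1), (22, 23, 1), (25, 26, 1)],
    [(2, 20, 1), (8, 18, -1), (9, 4, -1), (12, 3, 1), (22, 17, -1), (25, 16, 1)],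
    [(1, 20, 1), (7, 18, -1), (9, 5, 1), (15, 3, -1), (22, 14, -1), (25, 13, 1)],
    [(3, 0, 1), (4, 1, 1), (5, 2, 1), (18, 19, -1), (21, 22, -1), (24, 25, -1)],
    [(3, 23, -1), (6, 22, 1), (13, 2, -1), (16, 1, 1), (18, 11, 1), (24, 9, -1)],
    [(3, 17, 1), (5, 11, -1), (12, 22, -1), (13, 19, 1), (24, 7, 1), (26, 1, -1)],
    [(3, 14, 1), (4, 11, -1), (15, 22, 1), (16, 19, -1), (24, 8, -1), (26, 2, 1)],
    [(6, 0, 1), (7, 1, 1), (8, 2, 1), (18, 20, -1), (21, 23, -1), (24, 26, -1)],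
    [(5, 20, 1), (8, 19, -1), (9, 1, 1), (12, 0, -1), (21, 17, 1), (24, 16, -1)],
    [(4, 20, 1), (7, 19, -1), (9, 2, -1), (15, 0, 1), (21, 14, 1), (24, 13, -1)],
    [(6, 17, -1), (8, 11, 1), (12, 23, 1), (13, 20, -1), (24, 4, 1), (25, 1, -1)],
    [(6, 14, -1), (7, 11, 1), (15, 23, -1), (16, 20, 1), (24, 5, -1), (25, 2, 1)],
    [(9, 11, 1), (12, 14, 1), (15, 17, 1), (24, 18, -1), (25, 19, -1), (26, 20, -1)],
    [(0, 25, 1), (3, 24, -1), (14, 8, 1), (17, 7, -1), (20, 10, 1), (23, 9, -1)],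
    [(11, 10, 1), (14, 13, 1), (17, 16, 1), (21, 24, -1), (22, 25, -1), (23, 26, -1)],
    [(0, 26, -1), (6, 24, 1), (14, 5, 1), (17, 4, -1), (19, 10, 1), (22, 9, -1)],
    [(0, 16, -1), (2, 10, 1), (12, 24, -1), (14, 18, 1), (22, 7, 1), (23, 4, -1)],
    [(0, 13, -1), (1, 10, 1), (15, 24, 1), (17, 18, -1), (22, 8, -1), (23, 5, 1)],
    [(3, 26, -1), (6, 25, 1), (14, 2, -1), (17, 1, 1), (18, 10, -1), (21, 9, 1)],
    [(3, 16, -1), (5, 10, 1), (12, 25, -1), (14, 19, 1), (21, 7, -1), (23, 1, 1)],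
    [(3, 13, -1), (4, 10, 1), (15, 25, 1), (17, 19, -1), (21, 8, 1), (23, 2, -1)],
    [(0, 1, 1), (3, 4, 1), (6, 7, 1), (12, 9, -1), (13, 10, -1), (14, 11, -1)],
    [(0, 2, -1), (3, 5, -1), (6, 8, -1), (15, 9, 1), (16, 10, 1), (17, 11, 1)],
    [(0, 19, 1), (3, 18, -1), (12, 8, 1), (15, 7, -1), (23, 11, 1), (26, 10, -1)],
    [(6, 16, -1), (8, 10, 1), (12, 26, -1), (14, 20, 1), (21, 4, 1), (22, 1, -1)],
    [(6, 13, -1), (7, 10, 1), (15, 26, 1), (17, 20, -1), (21, 5, -1), (22, 2, 1)],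
    [(9, 10, 1), (12, 13, 1), (15, 16, 1), (21, 18, -1), (22, 19, -1), (23, 20, -1)],
    [(0, 20, -1), (6, 18, 1), (12, 5, 1), (15, 4, -1), (22, 11, 1), (25, 10, -1)],
    [(3, 20, -1), (6, 19, 1), (12, 2, -1), (15, 1, 1), (21, 11, -1), (24, 10, 1)]]

/-- The diagonal elements of the basis. -/
def cartT : List (List (ℕ × ℕ × ℤ)) :=
  [
    [(0, 0, 1), (3, 3, 1), (7, 7, -1), (8, 8, -1), (9, 9, -1), (10, 10, -1), (14, 14, 1), (17, 17, 1), (20, 20, 1), (23, 23, 1), (24, 24, -1), (25, 25, -1)],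
    [(0, 0, -1), (1, 1, -1), (2, 2, -1), (3, 3, 1), (4, 4, 1), (5, 5, 1), (18, 18, 1), (19, 19, -1), (21, 21, 1), (22, 22, -1), (24, 24, 1), (25, 25, -1)],
    [(0, 0, -1), (3, 3, -1), (7, 7, 1), (8, 8, 1), (9, 9, 1), (11, 11, 1), (13, 13, -1), (16, 16, -1), (20, 20, -1), (21, 21, 1), (22, 22, 1), (26, 26, -1)],
    [(0, 0, 1), (4, 4, -1), (5, 5, -1), (6, 6, 1), (9, 9, -1), (11, 11, -1), (13, 13, 1), (16, 16, 1), (19, 19, 1), (21, 21, -1), (23, 23, -1), (25, 25, 1)],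
    [(2, 2, 1), (5, 5, 1), (6, 6, -1), (7, 7, -1), (9, 9, 1), (12, 12, 1), (16, 16, -1), (17, 17, -1), (18, 18, -1), (19, 19, -1), (23, 23, 1), (26, 26, 1)],
    [(1, 1, 1), (2, 2, -1), (4, 4, 1), (5, 5, -1), (7, 7, 1), (8, 8, -1), (12, 12, -1), (13, 13, -1), (14, 14, -1), (15, 15, 1), (16, 16, 1), (17, 17, 1)]]

/-- The coordinate functionals on the span of the basis. -/
def coordT : List (List (ℕ × ℕ × ℤ)) :=
  [
    [(10, 10, -1)],
    [(0, 0, 1), (1, 1, -1), (2, 2, -1), (9, 9, 1)],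
    [(0, 0, 1), (1, 1, -1), (2, 2, -1), (3, 3, -1), (9, 9, 1), (10, 10, -1)],
    [(0, 0, 3), (1, 1, -2), (2, 2, -2), (3, 3, -1), (9, 9, 2)],
    [(0, 0, 2), (1, 1, -1), (2, 2, -1), (9, 9, 2)],
    [(0, 0, 1), (2, 2, -1), (9, 9, 1)],
    [(1, 15, 1)],
    [(4, 15, -1)],
    [(10, 9, 1)],
    [(2, 22, 1)],
    [(1, 22, -1)],
    [(7, 15, -1)],
    [(2, 0, -1)],
    [(1, 0, 1)],
    [(2, 23, -1)],
    [(1, 23, 1)],
    [(1, 17, 1)],
    [(5, 23, 1)],
    [(4, 23, -1)],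
    [(4, 17, -1)],
    [(10, 11, 1)],
    [(7, 17, -1)],
    [(11, 9, 1)],
    [(2, 25, 1)],
    [(1, 25, -1)],
    [(0, 15, 1)],
    [(0, 12, -1)],
    [(0, 6, 1)],
    [(2, 26, 1)],
    [(1, 26, -1)],
    [(1, 16, 1)],
    [(0, 3, 1)],
    [(3, 15, -1)],
    [(3, 12, 1)],
    [(3, 6, -1)],
    [(0, 22, -1)],
    [(5, 26, 1)],
    [(4, 26, -1)],
    [(4, 16, 1)],
    [(6, 15, 1)],
    [(6, 12, -1)],
    [(2, 1, 1)],
    [(1, 2, 1)],
    [(2, 19, 1)],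
    [(1, 19, 1)],
    [(0, 23, 1)],
    [(0, 17, -1)],
    [(0, 14, -1)],
    [(7, 16, 1)],
    [(6, 3, -1)],
    [(2, 20, 1)],
    [(1, 20, 1)],
    [(3, 0, 1)],
    [(3, 23, -1)],
    [(3, 17, 1)],
    [(3, 14, 1)],
    [(6, 0, 1)],
    [(5, 20, 1)],
    [(4, 20, 1)],
    [(6, 17, -1)],
    [(6, 14, -1)],
    [(9, 11, 1)],
    [(0, 25, 1)],
    [(11, 10, 1)],
    [(0, 26, -1)],
    [(0, 16, -1)],
    [(0, 13, -1)],
    [(3, 26, -1)],
    [(3, 16, -1)],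
    [(3, 13, -1)],
    [(0, 1, 1)],
    [(0, 2, -1)],
    [(0, 19, 1)],
    [(6, 16, -1)],
    [(6, 13, -1)],
    [(9, 10, 1)],
    [(0, 20, -1)],
    [(3, 20, -1)]]

/-- Six weights spanning the lattice. -/
def wts : List ℕ := [0, 1, 2, 3, 9, 10]

/-- The inverse of the pairing of the six weights with the fundamental coroots. -/
def wtsInv : List (List ℤ) := [[0, 0, 0, 0, 0, -1], [1, -1, -1, 0, 1, 0], [1, -1, -1, -1, 1, -1], [3, -2, -2, -1, 2, 0], [2, -1, -1, 0, 2, 0], [1, 0, -1, 0, 1, 0]]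

/-- Triangles spreading from the six weights. -/
def spread : List (ℕ × ℕ × ℕ) := [(1, 3, 8), (2, 3, 7), (0, 9, 18), (0, 10, 21), (18, 1, 12), (21, 1, 13), (18, 2, 15), (21, 2, 16), (3, 9, 19), (3, 10, 22), (12, 19, 4), (15, 19, 5), (7, 12, 20), (7, 13, 23), (1, 5, 6), (9, 13, 17), (16, 9, 14), (12, 16, 11), (18, 22, 26), (18, 23, 25), (19, 23, 24)]

/-- The reason for a coordinate of the image of a basis vector to vanish. -/
inductive Why
  | hyp (s s' : ℕ)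
  | apart (s : ℕ)
  | near (s u s1 s2 : ℕ)
deriving DecidableEq

/-- The source of a nonzero coordinate of the image of a basis vector. -/
inductive Seed
  | fresh
  | cross (s : ℕ)
  | hyp (s s' : ℕ)
deriving DecidableEq

/-- One step of the reduction: the line of `w` is fixed in addition to the lines of `fixd`. -/
structure Step where
  fixd : List ℕ
  w : ℕ
  zero : List (ℕ × Why)
  seed : Seed
  paths : List (ℕ × List (ℕ × ℕ × ℕ))
  clear : List (ℕ × ℕ)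
  kill : List (ℕ × ℕ)

/-- The steps of the reduction. -/
def steps : List Step :=
  [
    { fixd := [], w := 3, seed := .fresh,
      zero := [],
      paths := [(0, [(46, 0, 3)]), (1, [(64, 1, 0), (46, 0, 3)]), (2, [(65, 2, 0), (46, 0, 3)]), (3, []), (4, [(64, 4, 3)]), (5, [(65, 5, 3)]), (6, [(28, 6, 3)]), (7, [(28, 7, 4), (64, 4, 3)]), (8, [(28, 8, 5), (65, 5, 3)]), (9, [(27, 9, 4), (64, 4, 3)]), (10, [(63, 10, 4), (64, 4, 3)]), (11, [(49, 11, 4), (64, 4, 3)]), (12, [(27, 12, 3)]), (13, [(63, 13, 3)]), (14, [(49, 14, 3)]), (15, [(26, 15, 3)]), (16, [(62, 16, 3)]), (17, [(48, 17, 3)]), (18, [(66, 18, 3)]), (19, [(66, 19, 0), (46, 0, 3)]), (20, [(71, 20, 3)]), (21, [(29, 21, 3)]), (22, [(29, 22, 0), (46, 0, 3)]), (23, [(47, 23, 3)]), (24, [(56, 24, 3)]), (25, [(56, 25, 0), (46, 0, 3)]), (26, [(61, 26, 3)])],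
      clear := [(25, 0), (7, 4), (6, 5), (43, 6), (44, 12), (8, 13), (22, 14), (45, 15), (9, 16), (23, 17), (5, 18), (0, 20), (42, 21), (24, 23), (15, 24), (10, 26)],
      kill := [(1, 8), (2, 7), (7, 2), (8, 1), (9, 19), (10, 22), (11, 25), (19, 9), (22, 10), (25, 11)] },
    { fixd := [3], w := 22, seed := .cross 3,
      zero := [],
      paths := [(1, [(67, 1, 22)]), (2, [(68, 2, 22)]), (7, [(59, 7, 22)]), (8, [(60, 8, 22)]), (9, [(58, 9, 22)]), (10, [(60, 10, 1), (67, 1, 22)]), (11, [(70, 11, 22)]), (19, [(69, 19, 22)]), (22, []), (25, [(57, 25, 22)])],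
      clear := [(29, 0), (4, 1), (3, 2), (47, 6), (12, 7), (11, 8), (13, 9), (1, 11), (48, 12), (26, 14), (49, 15), (27, 17), (2, 19), (46, 21), (28, 23), (14, 25)],
      kill := [(3, 10), (4, 13), (5, 16), (10, 3), (13, 4), (16, 5), (18, 26), (20, 24), (24, 20), (26, 18)] },
    { fixd := [3, 22], w := 0, seed := .fresh,
      zero := [(1, .apart 3), (2, .apart 3), (3, .apart 22), (4, .apart 22), (5, .apart 22), (7, .apart 3), (8, .apart 3), (9, .apart 3), (10, .hyp 3 22), (11, .apart 3), (13, .apart 22), (16, .apart 22), (18, .apart 22), (19, .apart 3), (20, .apart 22), (22, .apart 3), (24, .apart 22), (25, .apart 3), (26, .apart 22)],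
      paths := [(0, []), (6, [(21, 6, 0)]), (12, [(20, 12, 0)]), (14, [(41, 14, 0)]), (15, [(19, 15, 0)]), (17, [(40, 17, 0)]), (21, [(39, 21, 6), (21, 6, 0)]), (23, [(39, 23, 0)])],
      clear := [(50, 6), (51, 12), (30, 14), (52, 15), (31, 17), (32, 23)],
      kill := [(21, 10)] },
    { fixd := [3, 22, 0], w := 10, seed := .hyp 3 22,
      zero := [],
      paths := [(10, [])],
      clear := [(60, 1), (59, 2), (63, 4), (62, 5), (68, 7), (67, 8), (69, 9), (57, 11), (64, 13), (65, 16), (61, 18), (58, 19), (56, 20), (71, 24), (70, 25), (66, 26)],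
      kill := [(0, 21), (3, 22), (6, 23), (12, 17), (14, 15), (15, 14), (17, 12), (21, 0), (22, 3), (23, 6)] },
    { fixd := [3, 22, 0, 10], w := 4, seed := .cross 0,
      zero := [(0, .apart 10), (1, .apart 3), (2, .apart 3), (3, .hyp 22 10), (6, .apart 10), (7, .apart 3), (8, .apart 3), (9, .apart 3), (10, .hyp 3 22), (11, .apart 3), (12, .apart 10), (14, .apart 10), (15, .apart 10), (17, .apart 10), (19, .apart 3), (21, .hyp 0 10), (22, .hyp 3 10), (23, .apart 10), (25, .apart 3)],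
      paths := [(4, []), (5, [(36, 5, 4)]), (18, [(38, 18, 4)]), (24, [(18, 24, 4)])],
      clear := [(35, 5), (39, 16), (33, 18), (19, 20), (53, 24), (40, 26)],
      kill := [(13, 22)] },
    { fixd := [3, 22, 0, 10, 4], w := 7, seed := .cross 0,
      zero := [(0, .apart 10), (2, .apart 4), (3, .hyp 22 10), (4, .apart 22), (5, .apart 22), (6, .apart 10), (8, .hyp 0 4), (10, .hyp 3 22), (12, .apart 10), (13, .hyp 22 4), (14, .apart 10), (15, .apart 10), (16, .apart 22), (17, .apart 10), (18, .apart 22), (19, .apart 4), (20, .apart 22), (21, .hyp 0 10), (22, .hyp 3 10), (23, .apart 10), (24, .apart 22), (25, .apart 4), (26, .apart 22)],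
      paths := [(7, []), (9, [(34, 9, 7)]), (11, [(54, 11, 7)])],
      clear := [(21, 1), (37, 9), (17, 11)],
      kill := [] },
    { fixd := [3, 22, 0, 10, 4, 7], w := 5, seed := .hyp 0 7,
      zero := [(0, .apart 10), (1, .apart 3), (2, .hyp 3 7), (3, .hyp 22 10), (6, .apart 10), (7, .apart 3), (8, .hyp 0 4), (9, .apart 3), (10, .hyp 3 22), (11, .apart 3), (12, .apart 10), (13, .hyp 22 4), (14, .apart 10), (15, .apart 10), (17, .apart 10), (19, .apart 3), (21, .hyp 0 10), (22, .hyp 3 10), (23, .apart 10), (25, .apart 3)],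
      paths := [(5, [])],
      clear := [(36, 4), (34, 18), (20, 20), (54, 24), (41, 26)],
      kill := [(16, 22)] },
    { fixd := [3, 22, 0, 10, 4, 7, 5], w := 19, seed := .cross 4,
      zero := [(0, .hyp 7 5), (2, .hyp 3 7), (3, .hyp 22 10), (4, .apart 22), (5, .hyp 0 7), (6, .apart 10), (7, .hyp 0 5), (8, .hyp 0 4), (9, .apart 0), (10, .hyp 3 22), (11, .apart 0), (12, .apart 10), (13, .hyp 22 4), (14, .apart 10), (15, .apart 10), (16, .hyp 22 5), (17, .apart 10), (18, .apart 22), (20, .apart 22), (21, .hyp 0 10), (22, .hyp 3 10), (23, .apart 10), (24, .apart 22), (26, .apart 22)],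
      paths := [(19, []), (25, [(16, 25, 19)])],
      clear := [(38, 1), (55, 25)],
      kill := [] },
    { fixd := [3, 22, 0, 10, 4, 7, 5, 19], w := 12, seed := .hyp 4 19,
      zero := [(0, .hyp 7 5), (1, .apart 3), (2, .hyp 3 7), (3, .hyp 22 10), (4, .apart 22), (5, .hyp 0 7), (6, .apart 5), (7, .hyp 0 5), (8, .hyp 0 4), (9, .hyp 3 19), (10, .hyp 3 22), (11, .apart 3), (13, .hyp 22 4), (15, .hyp 5 19), (16, .hyp 22 5), (17, .apart 5), (18, .apart 22), (19, .apart 3), (20, .apart 22), (21, .hyp 0 10), (22, .hyp 3 10), (24, .apart 22), (25, .apart 3), (26, .apart 22)],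
      paths := [(12, [])],
      clear := [(16, 14), (18, 23)],
      kill := [] },
    { fixd := [3, 22, 0, 10, 4, 7, 5, 19, 12], w := 23, seed := .cross 10,
      zero := [(0, .hyp 7 5), (1, .apart 3), (2, .hyp 3 7), (3, .hyp 22 10), (4, .hyp 19 12), (5, .hyp 0 7), (6, .apart 4), (7, .hyp 0 5), (8, .hyp 0 4), (9, .hyp 3 19), (10, .hyp 3 22), (11, .apart 3), (12, .hyp 4 19), (13, .hyp 22 4), (14, .apart 4), (15, .hyp 5 19), (16, .hyp 22 5), (17, .hyp 10 12), (18, .apart 22), (19, .hyp 4 12), (20, .hyp 7 12), (21, .hyp 0 10), (22, .hyp 3 10), (24, .apart 22), (25, .apart 3), (26, .apart 22)],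
      paths := [(23, [])],
      clear := [],
      kill := [] },
    { fixd := [3, 22, 0, 10, 4, 7, 5, 19, 12, 23], w := 25, seed := .cross 3,
      zero := [(0, .hyp 7 5), (1, .near 5 17 10 12), (2, .hyp 3 7), (3, .hyp 22 10), (4, .hyp 19 12), (5, .hyp 0 7), (6, .hyp 10 23), (7, .hyp 0 5), (8, .hyp 0 4), (9, .hyp 3 19), (10, .hyp 3 22), (11, .apart 0), (12, .hyp 4 19), (13, .hyp 22 4), (14, .apart 10), (15, .hyp 5 19), (16, .hyp 22 5), (17, .hyp 10 12), (18, .apart 22), (19, .hyp 4 12), (20, .hyp 7 12), (21, .hyp 0 10), (22, .hyp 3 10), (23, .apart 10), (24, .hyp 19 23), (26, .apart 22)],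
      paths := [(25, [])],
      clear := [],
      kill := [] },
    { fixd := [3, 22, 0, 10, 4, 7, 5, 19, 12, 23, 25], w := 18, seed := .cross 22,
      zero := [(0, .hyp 7 5), (1, .apart 3), (2, .hyp 3 7), (3, .hyp 22 10), (4, .hyp 19 12), (5, .hyp 0 7), (6, .hyp 10 23), (7, .hyp 0 5), (8, .hyp 0 4), (9, .hyp 3 19), (10, .hyp 3 22), (11, .hyp 3 25), (12, .hyp 4 19), (13, .hyp 22 4), (14, .hyp 4 25), (15, .hyp 5 19), (16, .hyp 22 5), (17, .hyp 10 12), (19, .hyp 4 12), (20, .hyp 7 12), (21, .hyp 0 10), (22, .hyp 3 10), (23, .apart 10), (24, .hyp 19 23), (25, .apart 3), (26, .apart 7)],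
      paths := [(18, [])],
      clear := [],
      kill := [] }]

/-- The pair of fixed lines giving each invariant hyperplane at the end. -/
def finalPairs : List (ℕ × ℕ) := [(7, 5), (12, 18), (3, 7), (22, 10), (19, 12), (0, 7), (10, 23), (0, 5), (0, 4), (3, 19), (3, 22), (3, 25), (4, 19), (22, 4), (4, 25), (5, 19), (22, 5), (10, 12), (23, 25), (4, 12), (7, 12), (0, 10), (3, 10), (25, 18), (19, 23), (23, 18), (22, 18)]

/-- The fundamental roots and their negatives. -/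
def genRoots : List ℕ := [56, 46, 42, 39, 37, 36, 15, 25, 29, 32, 34, 35]

/-- Each further root with a generator and an earlier root having it as commutator, and the sign. -/
def witness : List (ℕ × ℕ × ℕ × ℤ) :=
  [(14, 15, 29, 1), (24, 25, 32, 1), (28, 29, 32, 1), (31, 32, 34, 1), (33, 34, 35, 1), (38, 37, 36, -1), (40, 39, 37, -1), (43, 42, 39, -1), (47, 46, 39, -1), (57, 56, 42, -1), (13, 15, 28, 1), (21, 25, 28, -1), (23, 25, 31, 1), (27, 29, 31, 1), (30, 32, 33, 1), (41, 39, 38, -1), (44, 42, 40, -1), (48, 46, 40, -1), (50, 46, 43, 1), (58, 56, 43, -1), (10, 15, 21, 1), (12, 15, 27, 1), (20, 25, 27, -1), (22, 25, 30, 1), (26, 29, 30, 1), (45, 42, 41, -1), (49, 46, 41, -1), (51, 46, 44, 1), (59, 56, 44, -1), (61, 56, 50, -1), (9, 15, 20, 1), (11, 15, 26, 1), (18, 32, 20, -1), (19, 25, 26, -1), (52, 46, 45, 1), (53, 39, 51, 1), (60, 56, 45, -1), (62, 56, 51, -1), (7, 15, 18, 1), (8, 15, 19,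 1), (17, 32, 19, -1), (54, 39, 52, 1), (63, 56, 52, -1), (64, 56, 53, -1), (4, 29, 7, -1), (6, 15, 17, 1), (16, 34, 17, -1), (55, 37, 54, 1), (65, 56, 54, -1), (67, 42, 64, 1), (3, 29, 6, -1), (5, 15, 16, 1), (66, 56, 55, -1), (68, 42, 65, 1), (2, 29, 5, -1), (69, 42, 66, 1), (1, 32, 2, -1), (70, 39, 69, 1), (0, 25, 1, -1), (71, 46, 70, 1)]

end Cfsg.Agent.E6Iso
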