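import Cfsg.Prelude.Def_E6
import Cfsg.Agent.Lib.E6Iso.Tables

/-!
# Sparse integer matrices on the coordinates of the cubic form
-/

set_option autoImplicit false

namespace Cfsg.Agent.E6Iso

open scoped Matrix
open Cfsg.Lie

/-- From numbers to coordinates. -/
def ix (n : ℕ) : I27 :=
  (⟨n / 9 % 3, Nat.mod_lt _ (by omega)⟩, ⟨n / 3 % 3, Nat.mod_lt _ (by omega)⟩,
    ⟨n % 3, Nat.mod_lt _ (by omega)⟩)

/-- From coordinates to numbers. -/
def cd (a : I27) : ℕ := 9 * a.1.val + 3 * a.2.1.val + a.2.2.val

theorem ix_cd : ∀ a : I27, ix (cd a) = a := by decide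

theorem cd_lt : ∀ a : I27, cd a < 27 := by decide

theorem cd_injective : Function.Injective cd := fun a b h => by rw [← ix_cd a, ← ix_cd b, h]

theorem cd_ix {n : ℕ} (h : n < 27) : cd (ix n) = n := by
  show 9 * (n / 9 % 3) + 3 * (n / 3 % 3) + n % 3 = n
  omega

/-- Sparse matrices: lists of (row, column, coefficient). -/
abbrev Sparse := List (ℕ × ℕ × ℤ)

/-- A coefficient of a sparse matrix. -/
def coef (L : Sparse) (a b : ℕ) : ℤ :=
  (L.map fun e => if e.1 = a ∧ e.2.1 = b then e.2.2 else 0).sum

/-- Rescaling. -/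
def scaleL (c : ℤ) (L : Sparse) : Sparse := L.map fun e => (e.1, e.2.1, c * e.2.2)

/-- Product. -/
def mulL (L M : Sparse) : Sparse :=
  L.flatMap fun e => (M.filter fun f => decide (e.2.1 = f.1)).map fun f => (e.1, f.2.1, e.2.2 * f.2.2)

/-- All rows and columns are coordinates. -/
def inRange (L : Sparse) : Bool := L.all fun e => decide (e.1 < 27 ∧ e.2.1 < 27)

/-- Equality of coefficients. -/
def sameL (L M : Sparse) : Bool :=
  (L ++ M).all fun e => decide (coef L e.1 e.2.1 = coef M e.1 e.2.1)

variable {F : Type*} [Field F]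

/-- The matrix of a sparse matrix. -/
def toMat (L : Sparse) : Matrix I27 I27 F := Matrix.of fun a b => (coef L (cd a) (cd b) : F)

theorem toMat_apply (L : Sparse) (a b : I27) : toMat (F := F) L a b = (coef L (cd a) (cd b) : F) := rfl

theorem toMat_append (L M : Sparse) : toMat (F := F) (L ++ M) = toMat L + toMat M := by
  ext a b; simp [toMat_apply, coef]

theorem toMat_nil : toMat (F := F) [] = 0 := by ext a b; simp [toMat_apply, coef]

theorem toMat_cons {e : ℕ × ℕ × ℤ} (h : e.1 < 27 ∧ e.2.1 < 27) (L : Sparse) :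
    toMat (F := F) (e :: L) = Matrix.single (ix e.1) (ix e.2.1) (e.2.2 : F) + toMat L := by
  ext a b
  simp only [toMat_apply, coef, List.map_cons, List.sum_cons, Matrix.add_apply, Matrix.single_apply,
    Int.cast_add]
  congr 1
  have h1 : (ix e.1 = a ↔ e.1 = cd a) :=
    ⟨fun e' => by rw [← e', cd_ix h.1], fun e' => by rw [e', ix_cd]⟩
  have h2 : (ix e.2.1 = b ↔ e.2.1 = cd b) :=
    ⟨fun e' => by rw [← e', cd_ix h.2], fun e' => by rw [e', ix_cd]⟩
  simp only [h1, h2]
  split_ifs <;> simp

theorem toMat_scaleL (c : ℤ) (L : Sparse) : toMat (F := F) (scaleL c L) = (c : F) • toMat L := by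
  ext a b
  simp only [toMat_apply, coef, scaleL, List.map_map, Matrix.smul_apply, smul_eq_mul]
  rw [← Int.cast_mul, ← List.sum_map_mul_left]
  refine congrArg _ (congrArg List.sum (List.map_congr_left fun e _ => ?_))
  simp only [Function.comp_apply]
  split_ifs <;> ring

theorem coef_eq_zero {L : Sparse} {a b : ℕ} (h : ∀ e ∈ L, ¬ (e.1 = a ∧ e.2.1 = b)) : coef L a b = 0 := by
  refine List.sum_eq_zero fun x hx => ?_
  obtain ⟨e, he, rfl⟩ := List.mem_map.1 hx
  exact if_neg (h e he)

theorem toMat_eq_of_sameL {L M : Sparse} (h : sameL L M = true) : toMat (F := F) L = toMat M := by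
  have h' : ∀ e ∈ L ++ M, coef L e.1 e.2.1 = coef M e.1 e.2.1 := fun e he => by
    simpa using List.all_eq_true.1 h e he
  ext a b
  refine congrArg (Int.cast : ℤ → F) ?_
  by_cases hm : ∃ e ∈ L ++ M, e.1 = cd a ∧ e.2.1 = cd b
  · obtain ⟨e, he, e1, e2⟩ := hm
    rw [← e1, ← e2]
    exact h' e he
  · rw [coef_eq_zero fun e he h => hm ⟨e, List.mem_append_left _ he, h⟩,
      coef_eq_zero fun e he h => hm ⟨e, List.mem_append_right _ he, h⟩]

theorem toMat_map_single (c : ℤ) {a b : ℕ} (ha : a < 27) : ∀ {M : Sparse}, inRange M = true →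
    toMat (F := F) ((M.filter fun f => decide (b = f.1)).map fun f => (a, f.2.1, c * f.2.2)) =
      (if b < 27 then Matrix.single (ix a) (ix b) (c : F) * toMat M else 0)
  | [], _ => by simp [toMat_nil]
  | f :: M, hM => by
    simp only [inRange, List.all_cons, Bool.and_eq_true, decide_eq_true_eq] at hM
    have ih := toMat_map_single c (b := b) ha (M := M) hM.2
    rw [toMat_cons hM.1, List.filter_cons]
    by_cases hb : b = f.1
    · rw [if_pos (decide_eq_true hb), List.map_cons, toMat_cons (e := (a, f.2.1, c * f.2.2)) ⟨ha, hM.1.2⟩, ih, hb, if_pos hM.1.1,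
        if_pos hM.1.1, mul_add, Matrix.single_mul_single_same, Int.cast_mul]
    · rw [if_neg (fun h => hb (of_decide_eq_true h)), ih]
      split_ifs with hb'
      · have hne : ix b ≠ ix f.1 := fun h => hb (by rw [← cd_ix hb', h, cd_ix hM.1.1])
        simp [mul_add, hne]
      · rfl

theorem toMat_mulL {M : Sparse} (hM : inRange M = true) : ∀ {L : Sparse}, inRange L = true →
    toMat (F := F) (mulL L M) = toMat L * toMat M
  | [], _ => by simp [mulL, toMat_nil]
  | e :: L, hL => by
    simp only [inRange, List.all_cons, Bool.and_eq_true, decide_eq_true_eq] at hL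
    rw [mulL, List.flatMap_cons, toMat_append, toMat_map_single _ hL.1.1 hM, if_pos hL.1.2,
      toMat_cons hL.1, add_mul]
    congr 1
    exact toMat_mulL hM hL.2

/-- The trace pairing with a sparse matrix. -/
def pairL (L M : Sparse) : ℤ := (L.map fun e => e.2.2 * coef M e.1 e.2.1).sum

/-- The linear functional of a sparse matrix. -/
def evalL (L : Sparse) (X : Matrix I27 I27 F) : F :=
  (L.map fun e => (e.2.2 : F) * X (ix e.1) (ix e.2.1)).sum

theorem evalL_toMat {L : Sparse} (hL : inRange L = true) (M : Sparse) :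
    evalL L (toMat (F := F) M) = (pairL L M : F) := by
  induction L with
  | nil => simp [evalL, pairL]
  | cons e L ih =>
    simp only [inRange, List.all_cons, Bool.and_eq_true, decide_eq_true_eq] at hL
    simp only [evalL, pairL, List.map_cons, List.sum_cons, Int.cast_add, Int.cast_mul, toMat_apply,
      cd_ix hL.1.1, cd_ix hL.1.2]
    exact congrArg _ (ih hL.2)

theorem evalL_add (L : Sparse) (X Y : Matrix I27 I27 F) : evalL L (X + Y) = evalL L X + evalL L Y := by
  simp only [evalL, Matrix.add_apply, mul_add]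
  exact List.sum_map_add

theorem evalL_smul (L : Sparse) (c : F) (X : Matrix I27 I27 F) : evalL L (c • X) = c * evalL L X := by
  simp only [evalL, Matrix.smul_apply, smul_eq_mul]
  rw [← List.sum_map_mul_left]
  exact congrArg List.sum (List.map_congr_left fun e _ => by ring)

end Cfsg.Agent.E6Iso
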