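import Cfsg.Agent.Lib.E6Iso.Cubic
import Cfsg.Agent.Lib.Chev.CheckE6

/-!
# Kernel checks for the adjoint representation

Conjugation of the 78 basis matrices, the commutator witnesses and the coordinates.
-/

set_option autoImplicit false

namespace Cfsg.Agent.E6Iso

open scoped Matrix
open Cfsg.Lie Cfsg.Agent.Chev

/-- The index set of the Lie algebra. -/
abbrev J : Type := chevE6.Idx

/-- The basis of the Lie algebra. -/
def basisL (n : ℕ) : Sparse := (cartT ++ rootT).getD n []

/-- The coordinate functionals. -/
def coordL (n : ℕ) : Sparse := coordT.getD n []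

/-- The part of degree `j` in the image of a basis element under a root element. -/
noncomputable def comb (r n j : ℕ) : Sparse :=
  (E6.cert.col r n).flatMap fun y => if y.2.1 = j then scaleL y.2.2 (basisL y.1) else []

/-- A fast coefficient. -/
noncomputable def coefB (L : Sparse) (a b : ℕ) : ℤ :=
  List.rec (motive := fun _ => ℤ) 0
    (fun e _ s => cond (Nat.beq e.1 a && Nat.beq e.2.1 b) (e.2.2 + s) s) L

theorem coefB_eq (a b : ℕ) : ∀ L : Sparse, coefB L a b = coef L a b
  | [] => rfl
  | e :: L => by
    show cond (Nat.beq e.1 a && Nat.beq e.2.1 b) (e.2.2 + coefB L a b) (coefB L a b) = _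
    rw [coefB_eq a b L]
    simp only [coef, List.map_cons, List.sum_cons]
    by_cases h : e.1 = a ∧ e.2.1 = b
    · simp [h.1, h.2]
    · have hb : (Nat.beq e.1 a && Nat.beq e.2.1 b) = false := Bool.eq_false_iff.2 fun e' => by
        rw [Bool.and_eq_true] at e'
        exact h ⟨Nat.eq_of_beq_eq_true e'.1, Nat.eq_of_beq_eq_true e'.2⟩
      simp [hb, h]

/-- Fast equality of coefficients. -/
noncomputable def sameB (L M : Sparse) : Bool :=
  (L ++ M).all fun e => Chev.intBeq (coefB L e.1 e.2.1) (coefB M e.1 e.2.1)

theorem sameL_of_sameB {L M : Sparse} (h : sameB L M = true) : sameL L M = true := by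
  refine List.all_eq_true.2 fun e he => ?_
  have := List.all_eq_true.1 h e he
  rw [coefB_eq, coefB_eq] at this
  exact decide_eq_true (Chev.intBeq_iff.1 this)

/-- The check of one column of a root element. -/
noncomputable def chkAd (r n : ℕ) : Bool :=
  (E6.cert.col r n).all (fun y => Nat.blt y.2.1 3 && Nat.blt y.1 78) &&
    sameB (comb r n 0) (basisL n) &&
    sameB (comb r n 1) (mulL (rootN r) (basisL n) ++ scaleL (-1) (mulL (basisL n) (rootN r))) &&
    sameB (comb r n 2) (scaleL (-1) (mulL (mulL (rootN r) (basisL n)) (rootN r))) &&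
    inRange (mulL (rootN r) (basisL n))

theorem chk_gen0 : (List.range 78).all (chkAd (genRoots.getD 0 0)) = true := by decide +kernel

theorem chk_gen1 : (List.range 78).all (chkAd (genRoots.getD 1 0)) = true := by decide +kernel

theorem chk_gen2 : (List.range 78).all (chkAd (genRoots.getD 2 0)) = true := by decide +kernel

theorem chk_gen3 : (List.range 78).all (chkAd (genRoots.getD 3 0)) = true := by decide +kernel

theorem chk_gen4 : (List.range 78).all (chkAd (genRoots.getD 4 0)) = true := by decide +kernel

theorem chk_gen5 : (List.range 78).all (chkAd (genRoots.getD 5 0)) = true := by decide +kernel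

theorem chk_gen6 : (List.range 78).all (chkAd (genRoots.getD 6 0)) = true := by decide +kernel

theorem chk_gen7 : (List.range 78).all (chkAd (genRoots.getD 7 0)) = true := by decide +kernel

theorem chk_gen8 : (List.range 78).all (chkAd (genRoots.getD 8 0)) = true := by decide +kernel

theorem chk_gen9 : (List.range 78).all (chkAd (genRoots.getD 9 0)) = true := by decide +kernel

theorem chk_gen10 : (List.range 78).all (chkAd (genRoots.getD 10 0)) = true := by decide +kernel

theorem chk_gen11 : (List.range 78).all (chkAd (genRoots.getD 11 0)) = true := by decide +kernel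

/-- The check of a commutator witness. -/
noncomputable def chkWit (w : ℕ × ℕ × ℕ × ℤ) : Bool :=
  sameB (mulL (rootN w.2.1) (rootN w.2.2.1) ++ scaleL (-1) (mulL (rootN w.2.2.1) (rootN w.2.1)))
      (scaleL w.2.2.2 (rootN w.1)) &&
    sameB (mulL (mulL (rootN w.2.1) (rootN w.2.2.1)) (rootN w.2.1)) [] &&
    sameB (mulL (mulL (rootN w.2.2.1) (rootN w.2.1)) (rootN w.2.2.1)) [] &&
    inRange (mulL (rootN w.2.1) (rootN w.2.2.1)) && inRange (mulL (rootN w.2.2.1) (rootN w.2.1)) &&
    Nat.blt w.1 72 && (Chev.intBeq w.2.2.2 1 || Chev.intBeq w.2.2.2 (-1))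

theorem witness_ok : witness.all chkWit = true := by decide +kernel

/-- Whether the witnesses reach all roots in order. -/
def chkOrder : List ℕ → List (ℕ × ℕ × ℕ × ℤ) → Bool
  | known, [] => (List.range 72).all fun r => known.contains r
  | known, w :: l => known.contains w.2.1 && known.contains w.2.2.1 && chkOrder (w.1 :: known) l

theorem order_ok : chkOrder genRoots witness = true := by decide +kernel

theorem gen_ok : genRoots.length = 12 ∧ (genRoots.all fun r => Nat.blt r 72) = true ∧
    (∀ i : Fin 6, chevE6.simpleIdx.getD i.val 0 = genRoots.getD i.val 0 ∧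
      chevE6.negIdx.getD (chevE6.simpleIdx.getD i.val 0) 0 = genRoots.getD (i.val + 6) 0) := by
  decide +kernel


theorem basis_range : ∀ n : Fin 78, inRange (basisL n.val) = true ∧ inRange (coordL n.val) = true := by
  decide +kernel

/-- A fast trace pairing. -/
noncomputable def chkCoord (n : ℕ) : Bool :=
  (List.range 78).all fun m =>
    Chev.intBeq ((coordL n).foldr (fun e s => e.2.2 * coefB (basisL m) e.1 e.2.1 + s) 0)
      (cond (Nat.beq n m) 1 0)

theorem coord_ok : (List.range 78).all chkCoord = true := by decide +kernel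

theorem cartan_ok : ∀ i : Fin 6, chevE6.simpleIdx.getD i.val 0 < 72 ∧
    chevE6.negIdx.getD (chevE6.simpleIdx.getD i.val 0) 0 < 72 ∧
    sameL (basisL i.val)
      (mulL (rootN (chevE6.simpleIdx.getD i.val 0)) (rootN (chevE6.negIdx.getD (chevE6.simpleIdx.getD i.val 0) 0)) ++
        scaleL (-1) (mulL (rootN (chevE6.negIdx.getD (chevE6.simpleIdx.getD i.val 0) 0))
          (rootN (chevE6.simpleIdx.getD i.val 0)))) = true := by
  decide +kernel

theorem root_basis : ∀ r : Fin 72, basisL (6 + r.val) = rootN r.val := by decide +kernel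

end Cfsg.Agent.E6Iso
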