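import Cfsg.Agent.Lib.E6Iso.Base

/-!
# The cubic form and its root elements
-/

set_option autoImplicit false

namespace Cfsg.Agent.E6Iso

open scoped Matrix
open Cfsg.Lie

variable {F : Type*} [Field F]

/-- The action on vectors. -/
def act (g : GL I27 F) (v : I27 → F) : I27 → F := (g : Matrix I27 I27 F) *ᵥ v

theorem act_mul (g h : GL I27 F) (v : I27 → F) : act (g * h) v = act g (act h v) := by
  simp [act, Matrix.mulVec_mulVec]

theorem act_one (v : I27 → F) : act 1 v = v := by simp [act]

theorem act_inv_self (g : GL I27 F) (v : I27 → F) : act g⁻¹ (act g v) = v := by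
  rw [← act_mul, inv_mul_cancel, act_one]

theorem act_self_inv (g : GL I27 F) (v : I27 → F) : act g (act g⁻¹ v) = v := by
  rw [← act_mul, mul_inv_cancel, act_one]

theorem act_smul (g : GL I27 F) (c : F) (v : I27 → F) : act g (c • v) = c • act g v := by
  simp [act, Matrix.mulVec_smul]

/-- A basis vector. -/
def ev (n : ℕ) : I27 → F := Pi.single (ix n) 1

theorem ev_apply {n : ℕ} (hn : n < 27) {m : ℕ} (hm : m < 27) :
    ev (F := F) n (ix m) = if m = n then 1 else 0 := by
  by_cases h : m = n
  · subst h; simp [ev]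
  · have : ix m ≠ ix n := fun e => h (by rw [← cd_ix hm, e, cd_ix hn])
    simp [ev, h, this]

theorem funext_ix {v w : I27 → F} (h : ∀ n < 27, v (ix n) = w (ix n)) : v = w :=
  funext fun a => by rw [← ix_cd a]; exact h _ (cd_lt a)

theorem smul_ev_of_coords {v : I27 → F} {n : ℕ} (hn : n < 27)
    (h : ∀ m < 27, m ≠ n → v (ix m) = 0) : v = v (ix n) • ev n := by
  refine funext_ix fun m hm => ?_
  rw [Pi.smul_apply, ev_apply hn hm, smul_eq_mul]
  by_cases e : m = n
  · subst e; rw [if_pos rfl, mul_one]
  · rw [if_neg e, mul_zero, h m hm e]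

theorem act_eq (g : GL I27 F) (v : I27 → F) (a : I27) :
    act g v a = ∑ b, (g : Matrix I27 I27 F) a b * v b := rfl

theorem act_ev (g : GL I27 F) (n : ℕ) (a : I27) : act g (ev n) a = (g : Matrix I27 I27 F) a (ix n) := by
  simp [act, ev, Matrix.mulVec_single_one]

/-- The nilpotent part of a root element. -/
def rootN (r : ℕ) : Sparse := rootT.getD r []

/-- The sources of a coordinate under a root element. -/
def srcs (r a : ℕ) : List (ℕ × ℤ) :=
  ((rootN r).filter fun e => decide (e.1 = a)).map fun e => (e.2.1, e.2.2)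

/-- The increment of a coordinate under a root element. -/
def incr (r a : ℕ) (v : I27 → F) : F := ((srcs r a).map fun s => (s.2 : F) * v (ix s.1)).sum

theorem root_inRange : ∀ r : Fin 72, inRange (rootN r.val) = true := by decide +kernel

theorem root_sq : ∀ r : Fin 72, sameL (mulL (rootN r.val) (rootN r.val)) [] = true := by decide +kernel

theorem rootN_inRange (r : ℕ) : inRange (rootN r) = true := by
  by_cases hr : r < 72
  · exact root_inRange ⟨r, hr⟩
  · rw [rootN, List.getD_eq_default _ _ (show rootT.length ≤ r by simp [rootT]; omega)]; rfl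

theorem rootMat_sq (r : ℕ) : toMat (F := F) (rootN r) * toMat (rootN r) = 0 := by
  rw [← toMat_mulL (rootN_inRange r) (rootN_inRange r)]
  by_cases hr : r < 72
  · rw [toMat_eq_of_sameL (root_sq ⟨r, hr⟩), toMat_nil]
  · rw [rootN, List.getD_eq_default _ _ (show rootT.length ≤ r by simp [rootT]; omega)]; exact toMat_nil

/-- A root element. -/
def xel (r : ℕ) (t : F) : GL I27 F where
  val := 1 + t • toMat (rootN r)
  inv := 1 + (-t) • toMat (rootN r)
  val_inv := by simp [add_mul, mul_add, rootMat_sq]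
  inv_val := by simp [add_mul, mul_add, rootMat_sq]

theorem coe_xel (r : ℕ) (t : F) : ((xel r t : GL I27 F) : Matrix I27 I27 F) = 1 + t • toMat (rootN r) := rfl

theorem xel_inv (r : ℕ) (t : F) : (xel r t)⁻¹ = xel r (-t) := Units.ext rfl

theorem toMat_mulVec_ix {a : ℕ} (ha : a < 27) : ∀ {L : Sparse}, inRange L = true → ∀ v : I27 → F,
    (toMat (F := F) L *ᵥ v) (ix a) =
      ((L.filter fun e => decide (e.1 = a)).map fun e => (e.2.2 : F) * v (ix e.2.1)).sum
  | [], _, v => by simp [toMat_nil]
  | e :: L, hL, v => by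
    simp only [inRange, List.all_cons, Bool.and_eq_true, decide_eq_true_eq] at hL
    rw [toMat_cons hL.1, Matrix.add_mulVec, Pi.add_apply, toMat_mulVec_ix ha hL.2 v, List.filter_cons]
    by_cases h : e.1 = a
    · subst h; simp [Matrix.mulVec, dotProduct, Matrix.single_apply]
    · have : ix a ≠ ix e.1 := fun e' => h (by rw [← cd_ix hL.1.1, ← e', cd_ix ha])
      simp [h, Matrix.mulVec, dotProduct, Matrix.single_apply, Ne.symm this]

theorem act_xel (r : ℕ) (t : F) (v : I27 → F) {a : ℕ} (ha : a < 27) :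
    act (xel r t) v (ix a) = v (ix a) + t * incr r a v := by
  rw [act, coe_xel, Matrix.add_mulVec, Matrix.one_mulVec, Matrix.smul_mulVec, Pi.add_apply,
    Pi.smul_apply, toMat_mulVec_ix ha (rootN_inRange r), incr, srcs, List.map_map, smul_eq_mul]
  rfl

/-- The cubic form as a sum of monomials. -/
def cub (v : I27 → F) : F :=
  (monT.map fun m => (m.1 : F) * (v (ix m.2.1) * v (ix m.2.2.1) * v (ix m.2.2.2))).sum

theorem cubicT_eq (v : I27 → F) : cubicT v = cub v := by
  simp only [cub, monT, cubicT, mat3, Matrix.det_fin_three, Matrix.trace, Matrix.diag, Matrix.mul_apply,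
    Matrix.of_apply, Fin.sum_univ_three, List.map_cons, List.map_nil, List.sum_cons, List.sum_nil, ix,
    Fin.isValue]
  push_cast
  ring!

theorem mon_lt : ∀ m ∈ monT, m.2.1 < 27 ∧ m.2.2.1 < 27 ∧ m.2.2.2 < 27 := by decide +kernel

/-- An increasing rearrangement. -/
def sort3 (a b c : ℕ) : ℕ × ℕ × ℕ :=
  if a ≤ b then (if b ≤ c then (a, b, c) else if a ≤ c then (a, c, b) else (c, a, b))
  else (if a ≤ c then (b, a, c) else if b ≤ c then (b, c, a) else (c, b, a))

/-- The value of a cubic monomial. -/
def prod3 (v : I27 → F) (k : ℕ × ℕ × ℕ) : F := v (ix k.1) * v (ix k.2.1) * v (ix k.2.2)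

theorem prod3_sort3 (v : I27 → F) (a b c : ℕ) :
    prod3 v (sort3 a b c) = v (ix a) * v (ix b) * v (ix c) := by
  unfold sort3 prod3; split_ifs <;> ring

/-- The derivative of a monomial along a root element. -/
def dmon (r : ℕ) (m : ℤ × ℕ × ℕ × ℕ) : List (ℤ × (ℕ × ℕ × ℕ)) :=
  ((srcs r m.2.1).map fun s => (m.1 * s.2, sort3 s.1 m.2.2.1 m.2.2.2)) ++
    (((srcs r m.2.2.1).map fun s => (m.1 * s.2, sort3 m.2.1 s.1 m.2.2.2)) ++
      ((srcs r m.2.2.2).map fun s => (m.1 * s.2, sort3 m.2.1 m.2.2.1 s.1)))

/-- The total coefficient of a key. -/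
def keyCoef {α : Type*} [DecidableEq α] (L : List (ℤ × α)) (k : α) : ℤ :=
  (L.map fun p => if p.2 = k then p.1 else 0).sum

theorem sum_keys_eq_zero {α : Type*} [DecidableEq α] (f : α → F) :
    ∀ (n : ℕ) (L : List (ℤ × α)), L.length ≤ n → (∀ p ∈ L, keyCoef L p.2 = 0) →
      (L.map fun p => (p.1 : F) * f p.2).sum = 0
  | _, [], _, _ => by simp
  | n + 1, p :: L, hn, h => by
    set M := p :: L
    have e : ∀ (N : List (ℤ × α)), (N.map fun q => (q.1 : F) * f q.2).sum =
        (keyCoef N p.2 : F) * f p.2 +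
          ((N.filter fun q => !decide (q.2 = p.2)).map fun q => (q.1 : F) * f q.2).sum := by
      intro N
      induction N with
      | nil => simp [keyCoef]
      | cons q N ih =>
        simp only [List.map_cons, List.sum_cons, ih, keyCoef, List.filter_cons]
        by_cases hq : q.2 = p.2
        · simp [hq]; ring
        · simp [hq]; ring
    rw [e M, h p (List.mem_cons_self ..), Int.cast_zero, zero_mul, zero_add]
    refine sum_keys_eq_zero f n _ ?_ fun q hq => ?_
    · have : (M.filter fun q => !decide (q.2 = p.2)) = L.filter fun q => !decide (q.2 = p.2) := by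
        simp [M]
      rw [this]
      exact (List.length_filter_le _ _).trans (Nat.le_of_succ_le_succ hn)
    · rw [List.mem_filter] at hq
      have hne : q.2 ≠ p.2 := by simpa using hq.2
      rw [← h q hq.1]
      unfold keyCoef
      generalize M = N
      induction N with
      | nil => rfl
      | cons s N ih =>
        rw [List.filter_cons]
        by_cases hs : s.2 = p.2
        · simp [hs, ih, Ne.symm hne]
        · simp [hs, ih]

theorem dmon_ok : ∀ r : Fin 72,
    (let L := monT.flatMap (dmon r.val); ∀ p ∈ L, keyCoef L p.2 = 0) ∧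
    ∀ m ∈ monT, (srcs r.val m.2.1 = [] ∧ srcs r.val m.2.2.1 = []) ∨
      (srcs r.val m.2.1 = [] ∧ srcs r.val m.2.2.2 = []) ∨
      (srcs r.val m.2.2.1 = [] ∧ srcs r.val m.2.2.2 = []) := by
  decide +kernel

theorem cub_xel {r : ℕ} (hr : r < 72) (t : F) (v : I27 → F) : cub (act (xel r t) v) = cub v := by
  obtain ⟨hk, hs⟩ := dmon_ok ⟨r, hr⟩
  have h0 : (((monT.flatMap (dmon r)).map fun p => (p.1 : F) * prod3 v p.2)).sum = 0 :=
    sum_keys_eq_zero (prod3 v) _ _ le_rfl hk
  have key : ∀ L : List (ℤ × ℕ × ℕ × ℕ), (∀ m ∈ L, m ∈ monT) →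
      (L.map fun m => (m.1 : F) * (act (xel r t) v (ix m.2.1) * act (xel r t) v (ix m.2.2.1) *
        act (xel r t) v (ix m.2.2.2))).sum =
      (L.map fun m => (m.1 : F) * (v (ix m.2.1) * v (ix m.2.2.1) * v (ix m.2.2.2))).sum +
        t * ((L.flatMap (dmon r)).map fun p => (p.1 : F) * prod3 v p.2).sum := by
    intro L hL
    induction L with
    | nil => simp
    | cons m L ih =>
      have hm := hL m (List.mem_cons_self ..)
      obtain ⟨l1, l2, l3⟩ := mon_lt m hm
      rw [List.map_cons, List.map_cons, List.sum_cons, List.sum_cons, List.flatMap_cons, List.map_append,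
        List.sum_append, ih fun x hx => hL x (List.mem_cons_of_mem _ hx), act_xel r t v l1,
        act_xel r t v l2, act_xel r t v l3]
      have e : ((dmon r m).map fun p => (p.1 : F) * prod3 v p.2).sum = (m.1 : F) *
          (incr r m.2.1 v * v (ix m.2.2.1) * v (ix m.2.2.2) + v (ix m.2.1) * incr r m.2.2.1 v *
            v (ix m.2.2.2) + v (ix m.2.1) * v (ix m.2.2.1) * incr r m.2.2.2 v) := by
        simp only [dmon, List.map_append, List.map_map, List.sum_append, incr, ← List.sum_map_mul_left,
          ← List.sum_map_mul_right, ← add_assoc, mul_add]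
        refine congrArg₂ (· + ·) (congrArg₂ (· + ·) ?_ ?_) ?_ <;>
          refine congrArg List.sum (List.map_congr_left fun s _ => ?_) <;>
          simp only [Function.comp_apply, prod3_sort3, Int.cast_mul] <;> ring
      rw [e]
      rcases hs m hm with ⟨a, b⟩ | ⟨a, b⟩ | ⟨a, b⟩ <;> simp [incr, a, b] <;> ring
  rw [cub, key monT fun m hm => hm, h0, mul_zero, add_zero, cub]

theorem xel_mem_univ {r : ℕ} (hr : r < 72) (t : F) : xel r t ∈ E6univ F := fun v => by
  rw [cubicT_eq, cubicT_eq]; exact cub_xel hr t v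

/-- The group generated by the root elements. -/
def rootGroup (F : Type*) [Field F] : Subgroup (GL I27 F) :=
  Subgroup.closure {g | ∃ r < 72, ∃ t : F, g = xel r t}

theorem xel_mem_rootGroup {r : ℕ} (hr : r < 72) (t : F) : xel r t ∈ rootGroup F :=
  Subgroup.subset_closure ⟨r, hr, t, rfl⟩

theorem rootGroup_le_univ : rootGroup F ≤ E6univ F := by
  rw [rootGroup, Subgroup.closure_le]
  rintro _ ⟨r, hr, t, rfl⟩
  exact xel_mem_univ hr t

end Cfsg.Agent.E6Iso
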