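import Cfsg.Agent.Lib.E6Iso.Reduce
import Cfsg.Agent.Lib.E6Iso.Adjoint

/-!
# Diagonal isometries of the cubic form lie in the root group

The isometry group of the cubic form is the group generated by the root elements, and modulo its centre it is
the group of the type E6 tables.
-/

set_option autoImplicit false

namespace Cfsg.Agent.E6Iso

open scoped Matrix
open Cfsg.Lie

/-- A fundamental root. -/
def posGen (i : ℕ) : ℕ := genRoots.getD i 0

/-- The negative of a fundamental root. -/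
def negGen (i : ℕ) : ℕ := genRoots.getD (i + 6) 0

/-- The exponent of a coordinate under a fundamental torus element. -/
def expo (i a : ℕ) : ℤ := coef (basisL i) a a

/-- The two partners of a coordinate under a fundamental root. -/
def chkPair (p q a b : ℕ) : Bool :=
  match srcs p a, srcs q b with
  | [s], [s'] => decide (s.1 = b) && decide (s'.1 = a) && decide (s.2 = s'.2) &&
      (decide (s.2 = 1) || decide (s.2 = -1)) && (srcs p b).isEmpty && (srcs q a).isEmpty
  | _, _ => false

/-- The check of a torus element on a coordinate. -/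
def chkTorus (i a : ℕ) : Bool :=
  let p := posGen i
  let q := negGen i
  decide (p < 72) && decide (q < 72) &&
  ((decide (expo i a = 0) && (srcs p a).isEmpty && (srcs q a).isEmpty) ||
    (List.range 27).any fun b => (decide (expo i a = 1) && chkPair p q a b) ||
      (decide (expo i a = -1) && chkPair p q b a))

theorem torus_ok : ∀ i : Fin 6, ∀ a : Fin 27, chkTorus i.val a.val = true := by decide +kernel

/-- Triangles spreading over all coordinates. -/
def chkSpread : List ℕ → List (ℕ × ℕ × ℕ) → Bool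
  | known, [] => (List.range 27).all fun n => known.contains n
  | known, abc :: l => known.contains abc.1 && known.contains abc.2.1 && decide (abc.1 < 27) &&
      decide (abc.2.1 < 27) && isOne (duoL abc.1 abc.2.1) abc.2.2 && decide (abc.2.2 < 27) &&
      chkSpread (abc.2.2 :: known) l

theorem spread_ok : chkSpread wts spread = true ∧ wts.length = 6 := by decide +kernel

theorem inv_ok : ∀ j : Fin 6, wts.getD j.val 0 < 27 ∧ ∀ k : Fin 6,
    (∑ i : Fin 6, (wtsInv.getD i.val []).getD k.val 0 * expo i.val (wts.getD j.val 0)) =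
      if j = k then 1 else 0 := by
  decide +kernel

variable {F : Type*} [Field F]

/-- A Weyl element. -/
def nel (i : ℕ) (t : F) : GL I27 F := xel (posGen i) t * xel (negGen i) (-t⁻¹) * xel (posGen i) t

/-- A torus element. -/
def hel (i : ℕ) (t : F) : GL I27 F := nel i t * nel i (-1)

theorem pair_spec {p q a b : ℕ} (h : chkPair p q a b = true) :
    ∃ c : F, c * c = 1 ∧ ∀ v : I27 → F, incr p a v = c * v (ix b) ∧ incr q b v = c * v (ix a) ∧
      incr p b v = 0 ∧ incr q a v = 0 := by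
  unfold chkPair at h
  split at h
  · next s s' hs hs' =>
    simp only [Bool.and_eq_true, Bool.or_eq_true, decide_eq_true_eq] at h
    obtain ⟨⟨⟨⟨⟨rfl, rfl⟩, he⟩, hc⟩, hb⟩, ha⟩ := h
    exact ⟨(s.2 : F), by rcases hc with e | e <;> simp [e], fun v =>
      ⟨by simp [incr, hs], by simp [incr, hs', he], incr_eq_zero hb v, incr_eq_zero ha v⟩⟩
  · exact absurd h (by simp)

theorem nel_pair {i a b : ℕ} (ha : a < 27) (hb : b < 27) {c : F} (hc : c * c = 1)
    (h : ∀ v : I27 → F, incr (posGen i) a v = c * v (ix b) ∧ incr (negGen i) b v = c * v (ix a) ∧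
      incr (posGen i) b v = 0 ∧ incr (negGen i) a v = 0) {t : F} (ht : t ≠ 0) (v : I27 → F) :
    act (nel i t) v (ix a) = t * (c * v (ix b)) ∧ act (nel i t) v (ix b) = -(t⁻¹ * (c * v (ix a))) := by
  simp only [nel, act_mul]
  set v1 := act (xel (posGen i) t) v with hv1
  set v2 := act (xel (negGen i) (-t⁻¹)) v1 with hv2
  have a1 : v1 (ix a) = v (ix a) + t * (c * v (ix b)) := by rw [hv1, act_xel _ _ _ ha, (h v).1]
  have b1 : v1 (ix b) = v (ix b) := by rw [hv1, act_xel _ _ _ hb, (h v).2.2.1, mul_zero, add_zero]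
  have a2 : v2 (ix a) = v1 (ix a) := by rw [hv2, act_xel _ _ _ ha, (h v1).2.2.2, mul_zero, add_zero]
  have b2 : v2 (ix b) = v1 (ix b) + -t⁻¹ * (c * v1 (ix a)) := by rw [hv2, act_xel _ _ _ hb, (h v1).2.1]
  have htt : t⁻¹ * t = 1 := inv_mul_cancel₀ ht
  refine ⟨?_, ?_⟩
  · rw [act_xel _ _ _ ha, (h v2).1, a2, b2, a1, b1]
    linear_combination -(v (ix a) + t * c * v (ix b)) * hc - c * c * v (ix a) * htt -
      (c * c * c) * t * v (ix b) * htt
  · rw [act_xel _ _ _ hb, (h v2).2.2.1, mul_zero, add_zero, b2, a1, b1]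
    linear_combination -(t⁻¹ * t) * v (ix b) * hc - v (ix b) * htt

theorem act_hel {i : ℕ} (hi : i < 6) {a : ℕ} (ha : a < 27) {t : F} (ht : t ≠ 0) (v : I27 → F) :
    act (hel i t) v (ix a) = t ^ expo i a * v (ix a) := by
  have h := torus_ok ⟨i, hi⟩ ⟨a, ha⟩
  simp only [chkTorus, Bool.and_eq_true, Bool.or_eq_true, decide_eq_true_eq, List.any_eq_true,
    List.mem_range] at h
  obtain ⟨-, h⟩ := h
  have hm1 : (-1 : F) ≠ 0 := by simp
  have hinv : ((-1 : F))⁻¹ = -1 := by norm_num
  rcases h with ⟨⟨e0, hp⟩, hq⟩ | ⟨b, hb, ⟨e1, hpr⟩ | ⟨e1, hpr⟩⟩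
  · rw [e0, zpow_zero, one_mul]
    simp only [hel, nel, act_mul]
    simp [act_xel _ _ _ ha, incr_eq_zero hp, incr_eq_zero hq]
  · obtain ⟨c, hc, hcv⟩ := pair_spec (F := F) hpr
    rw [hel, act_mul, (nel_pair ha hb hc hcv ht _).1, (nel_pair ha hb hc hcv hm1 v).2, e1, zpow_one, hinv]
    linear_combination t * v (ix a) * hc
  · obtain ⟨c, hc, hcv⟩ := pair_spec (F := F) hpr
    rw [hel, act_mul, (nel_pair hb ha hc hcv ht _).2, (nel_pair hb ha hc hcv hm1 v).1, e1, zpow_neg_one]
    linear_combination t⁻¹ * v (ix a) * hc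

theorem hel_mem {i : ℕ} (hi : i < 6) (t : F) : hel i t ∈ rootGroup F := by
  have h := torus_ok ⟨i, hi⟩ 0
  simp only [chkTorus, Bool.and_eq_true, decide_eq_true_eq] at h
  have hp := h.1.1
  have hq := h.1.2
  exact mul_mem (mul_mem (mul_mem (xel_mem_rootGroup hp _) (xel_mem_rootGroup hq _)) (xel_mem_rootGroup hp _))
    (mul_mem (mul_mem (xel_mem_rootGroup hp _) (xel_mem_rootGroup hq _)) (xel_mem_rootGroup hp _))

theorem exists_torus (t : Fin 6 → Fˣ) : ∀ s : Finset (Fin 6), ∃ h ∈ rootGroup F,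
    ∀ n < 27, ∀ v : I27 → F, act h v (ix n) = ((∏ i ∈ s, t i ^ expo i.val n : Fˣ) : F) * v (ix n) := by
  intro s
  induction s using Finset.induction with
  | empty => exact ⟨1, one_mem _, fun n _ v => by rw [act_one]; simp⟩
  | insert i s hi ih =>
    obtain ⟨h, hh, hv⟩ := ih
    refine ⟨hel i.val (t i : F) * h, mul_mem (hel_mem i.2 _) hh, fun n hn v => ?_⟩
    rw [act_mul, act_hel i.2 hn (t i).ne_zero, hv n hn, Finset.prod_insert hi, Units.val_mul,
      Units.val_zpow_eq_zpow_val, mul_assoc]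

theorem spread_spec {μ : ℕ → F}
    (hμ : ∀ a b k, a < 27 → b < 27 → k < 27 → isOne (duoL a b) k = true → μ a * μ b * μ k = 1) :
    ∀ (l : List (ℕ × ℕ × ℕ)) (known : List ℕ), chkSpread known l = true → (∀ n ∈ known, μ n = 1) →
      ∀ n < 27, μ n = 1
  | [], known, h, hk, n, hn => hk n (by simpa using List.all_eq_true.1 h n (List.mem_range.2 hn))
  | abc :: l, known, h, hk, n, hn => by
    simp only [chkSpread, Bool.and_eq_true, decide_eq_true_eq, List.contains_eq_mem] at h
    obtain ⟨⟨⟨⟨⟨⟨h1, h2⟩, l1⟩, l2⟩, h3⟩, l3⟩, hl⟩ := h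
    refine spread_spec hμ l _ hl (fun m hm => ?_) n hn
    rcases List.mem_cons.1 hm with rfl | hm
    · have := hμ _ _ _ l1 l2 l3 h3
      rwa [hk _ h1, hk _ h2, one_mul, one_mul] at this
    · exact hk m hm

theorem diag_mem {u : F} (hu0 : u ≠ 0) (hu1 : u ≠ 1) {g : GL I27 F} (hg : g ∈ E6univ F) {c : ℕ → F}
    (hc0 : ∀ n < 27, c n ≠ 0) (hc : ∀ n < 27, ∀ x : I27 → F, act g x (ix n) = c n * x (ix n)) :
    g ∈ rootGroup F := by
  let d : Fin 6 → Fˣ := fun j => Units.mk0 (c (wts.getD j.val 0)) (hc0 _ (inv_ok j).1)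
  let t : Fin 6 → Fˣ := fun i => ∏ k : Fin 6, d k ^ (wtsInv.getD i.val []).getD k.val 0
  obtain ⟨h, hh, hv⟩ := exists_torus t Finset.univ
  let ν : ℕ → F := fun n => ((∏ i : Fin 6, t i ^ expo i.val n : Fˣ) : F)
  have hν0 : ∀ n, ν n ≠ 0 := fun n => Units.ne_zero _
  have hev : ∀ (g' : GL I27 F) (m : ℕ → F), (∀ n < 27, ∀ x : I27 → F, act g' x (ix n) = m n * x (ix n)) →
      g' ∈ E6univ F → ∀ a b k, a < 27 → b < 27 → k < 27 → isOne (duoL a b) k = true → m a * m b * m k = 1 := by
    intro g' m hm hg' a b k ha hb hk hone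
    obtain ⟨e, he, hez⟩ := isOne_spec (F := F) hone
    have key : ∀ x < 27, act g' (ev (F := F) x) = m x • ev x := fun x hx => funext_ix fun n hn => by
      rw [hm n hn, Pi.smul_apply, ev_apply hx hn, smul_eq_mul]
      split_ifs with e <;> simp [e]
    have h0 := Bt_act hg' hu0 hu1 (ev a) (ev b) (ev k)
    rw [key a ha, key b hb, Bt_smul₁, Bt_smul₂, Bt_ev_ev ha hb, Bt_ev_ev ha hb, hez, hez, key k hk,
      Pi.smul_apply, ev_apply hk hk, if_pos rfl, smul_eq_mul, mul_one, mul_one] at h0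
    have he0 : e ≠ 0 := fun z => by simp [z] at he
    have : e * (m a * m b * m k - 1) = 0 := by linear_combination h0
    exact sub_eq_zero.1 ((mul_eq_zero.1 this).resolve_left he0)
  have hW : ∀ n ∈ wts, c n = ν n := by
    intro n hn
    obtain ⟨j, hj, rfl⟩ := List.getElem_of_mem hn
    rw [spread_ok.2] at hj
    rw [← List.getD_eq_getElem wts 0]
    have key : (∏ i : Fin 6, t i ^ expo i.val (wts.getD j 0)) = d ⟨j, hj⟩ := by
      simp only [t, ← Finset.prod_zpow, ← zpow_mul]
      rw [Finset.prod_comm]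
      have hk : ∀ k : Fin 6, (∏ i : Fin 6, d k ^ ((wtsInv.getD i.val []).getD k.val 0 *
          expo i.val (wts.getD j 0))) = d k ^ (if (⟨j, hj⟩ : Fin 6) = k then 1 else 0 : ℤ) := fun k => by
        rw [← (inv_ok ⟨j, hj⟩).2 k]
        exact Finset.induction_on (Finset.univ : Finset (Fin 6)) (by simp) fun i s hi ih => by
          rw [Finset.prod_insert hi, Finset.sum_insert hi, ih, zpow_add]
      rw [Finset.prod_congr rfl fun k _ => hk k]
      rw [Finset.prod_eq_single (⟨j, hj⟩ : Fin 6) (fun k _ hk' => by rw [if_neg (Ne.symm hk'), zpow_zero])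
        (fun h' => absurd (Finset.mem_univ _) h'), if_pos rfl, zpow_one]
    show c _ = ((∏ i : Fin 6, t i ^ expo i.val (wts.getD j 0) : Fˣ) : F)
    rw [key]
    rfl
  have hall : ∀ n < 27, c n = ν n := by
    have := spread_spec (μ := fun n => c n / ν n) (fun a b k ha hb hk hone => by
      have h1 := hev g c hc hg a b k ha hb hk hone
      have h2 := hev h ν hv (rootGroup_le_univ hh) a b k ha hb hk hone
      rw [div_mul_div_comm, div_mul_div_comm, h1, h2, div_one]) spread wts spread_ok.1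
      (fun n hn => by rw [hW n hn, div_self (hν0 n)])
    intro n hn
    exact (div_eq_one_iff_eq (hν0 n)).1 (this n hn)
  have : g = h := by
    refine Units.ext (Matrix.ext fun a b => ?_)
    have e : act g (ev (cd b)) a = act h (ev (cd b)) a := by
      rw [← ix_cd a, hc _ (cd_lt a), hv _ (cd_lt a), hall _ (cd_lt a)]
    rwa [act_ev, act_ev, ix_cd] at e
  rw [this]
  exact hh

theorem univ_eq_rootGroup [Fintype F] (hF : 3 ≤ Fintype.card F) : E6univ F = rootGroup F := by
  refine le_antisymm (fun g hg => ?_) rootGroup_le_univ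
  obtain ⟨u, hu0, hu1⟩ := exists_ne_zero_one hF
  obtain ⟨e, he, hm, hd⟩ := exists_diag hu0 hu1 hg
  have hd' : ∀ n : ℕ, ∃ c : F, n < 27 → c ≠ 0 ∧ ∀ x : I27 → F, act (e * g) x (ix n) = c * x (ix n) := fun n => by
    by_cases hn : n < 27
    · obtain ⟨c, hc⟩ := hd n hn
      exact ⟨c, fun _ => hc⟩
    · exact ⟨0, fun h => absurd h hn⟩
  choose c hc using hd'
  have := mul_mem (inv_mem he) (diag_mem hu0 hu1 hm (fun n hn => (hc n hn).1) fun n hn => (hc n hn).2)
  rwa [inv_mul_cancel_left] at this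

/-- The cubic form description of the type E6 tables. -/
theorem nonempty_iso [Fintype F] (hF : 3 ≤ Fintype.card F) :
    Nonempty (E6 F ≃* ↥(chevE6.group F)) := by
  have e := univ_eq_rootGroup hF
  unfold E6
  rw [e]
  refine ⟨((QuotientGroup.quotientMulEquivOfEq rho_ker.symm).trans
    (QuotientGroup.quotientKerEquivRange (rho F))).trans (MulEquiv.subgroupCongr rho_range)⟩

end Cfsg.Agent.E6Iso
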