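import Cfsg.Agent.Lib.E6Iso.Cubic

/-!
# The polarisations of the cubic form

A matrix preserving the cubic form as a function on a field with more than two elements preserves both
polarisations, hence the invariant hyperplanes and the singular vectors.
-/

set_option autoImplicit false

namespace Cfsg.Agent.E6Iso

open scoped Matrix
open Cfsg.Lie

variable {F : Type*} [Field F]

/-- The polarisation, linear in the first and quadratic in the second argument. -/
def Dq (x y : I27 → F) : F :=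
  (monT.map fun m => (m.1 : F) * (x (ix m.2.1) * y (ix m.2.2.1) * y (ix m.2.2.2) +
    y (ix m.2.1) * x (ix m.2.2.1) * y (ix m.2.2.2) + y (ix m.2.1) * y (ix m.2.2.1) * x (ix m.2.2.2))).sum

/-- The symmetric trilinear form. -/
def Bt (x y z : I27 → F) : F :=
  (monT.map fun m => (m.1 : F) * (x (ix m.2.1) * (y (ix m.2.2.1) * z (ix m.2.2.2) + z (ix m.2.2.1) * y (ix m.2.2.2)) +
    x (ix m.2.2.1) * (y (ix m.2.1) * z (ix m.2.2.2) + z (ix m.2.1) * y (ix m.2.2.2)) +
    x (ix m.2.2.2) * (y (ix m.2.1) * z (ix m.2.2.1) + z (ix m.2.1) * y (ix m.2.2.1)))).sum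

theorem cub_add_smul (x y : I27 → F) (u : F) :
    cub (x + u • y) = cub x + u * Dq y x + u ^ 2 * Dq x y + u ^ 3 * cub y := by
  unfold cub Dq
  induction monT with
  | nil => simp
  | cons m L ih =>
    simp only [List.map_cons, List.sum_cons]
    rw [ih]
    simp only [Pi.add_apply, Pi.smul_apply, smul_eq_mul]
    ring

theorem Dq_add (x y z : I27 → F) : Dq x (y + z) = Dq x y + Dq x z + Bt x y z := by
  unfold Dq Bt
  induction monT with
  | nil => simp
  | cons m L ih =>
    simp only [List.map_cons, List.sum_cons]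
    rw [ih]
    simp only [Pi.add_apply]
    ring

theorem Bt_comm (x y z : I27 → F) : Bt x y z = Bt x z y := by
  unfold Bt
  refine congrArg List.sum (List.map_congr_left fun m _ => ?_)
  ring

theorem Bt_smul₁ (c : F) (x y z : I27 → F) : Bt (c • x) y z = c * Bt x y z := by
  unfold Bt
  rw [← List.sum_map_mul_left]
  refine congrArg List.sum (List.map_congr_left fun m _ => ?_)
  simp only [Pi.smul_apply, smul_eq_mul]
  ring

theorem Bt_smul₂ (c : F) (x y z : I27 → F) : Bt x (c • y) z = c * Bt x y z := by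
  unfold Bt
  rw [← List.sum_map_mul_left]
  refine congrArg List.sum (List.map_congr_left fun m _ => ?_)
  simp only [Pi.smul_apply, smul_eq_mul]
  ring

theorem act_add (g : GL I27 F) (v w : I27 → F) : act g (v + w) = act g v + act g w := by
  simp [act, Matrix.mulVec_add]

theorem exists_ne_zero_one [Fintype F] (hF : 3 ≤ Fintype.card F) : ∃ u : F, u ≠ 0 ∧ u ≠ 1 := by
  classical
  have : ((Finset.univ : Finset F) \ {0, 1}).Nonempty := by
    rw [← Finset.card_pos]
    have h1 : ({0, 1} : Finset F).card ≤ 2 := Finset.card_le_two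
    have h2 := Finset.le_card_sdiff ({0, 1} : Finset F) Finset.univ
    rw [Finset.card_univ] at h2
    omega
  obtain ⟨u, hu⟩ := this
  refine ⟨u, fun e => ?_, fun e => ?_⟩ <;> simp [e] at hu

section Invariance

variable {g : GL I27 F} (hg : g ∈ E6univ F) {u : F} (hu0 : u ≠ 0) (hu1 : u ≠ 1)
include hg

theorem cub_act (v : I27 → F) : cub (act g v) = cub v := by
  have h := hg v
  rw [cubicT_eq, cubicT_eq] at h
  exact h

include hu0 hu1

theorem Dq_act (x y : I27 → F) : Dq (act g x) (act g y) = Dq x y := by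
  have key : ∀ s : F, s * Dq (act g y) (act g x) + s ^ 2 * Dq (act g x) (act g y) =
      s * Dq y x + s ^ 2 * Dq x y := fun s => by
    have h := cub_act hg (x + s • y)
    rw [act_add, act_smul, cub_add_smul, cub_add_smul, cub_act hg x, cub_act hg y] at h
    linear_combination h
  have h1 := key 1
  have h2 := key u
  have hne : u ^ 2 - u ≠ 0 := by
    rw [show u ^ 2 - u = u * (u - 1) by ring]
    exact mul_ne_zero hu0 (sub_ne_zero.2 hu1)
  refine mul_left_cancel₀ hne ?_
  linear_combination h2 - u * h1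

theorem Bt_act (x y z : I27 → F) : Bt (act g x) (act g y) (act g z) = Bt x y z := by
  have h1 := Dq_act hg hu0 hu1 x (y + z)
  rw [act_add, Dq_add, Dq_add, Dq_act hg hu0 hu1 x y, Dq_act hg hu0 hu1 x z] at h1
  linear_combination h1

end Invariance

/-- The terms of the quadratic map at a coordinate. -/
def quadL (k : ℕ) : List (ℤ × ℕ × ℕ) :=
  monT.flatMap fun m => (if m.2.1 = k then [(m.1, m.2.2.1, m.2.2.2)] else []) ++
    ((if m.2.2.1 = k then [(m.1, m.2.1, m.2.2.2)] else []) ++
      (if m.2.2.2 = k then [(m.1, m.2.1, m.2.2.1)] else []))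

/-- The terms of the bilinear map at a coordinate. -/
def linL (s : ℕ) : List (ℤ × ℕ × ℕ) := (quadL s).flatMap fun q => [q, (q.1, q.2.2, q.2.1)]

/-- The terms of the linear form of two coordinates. -/
def duoL (a b : ℕ) : List (ℤ × ℕ) :=
  ((linL a).filter fun q => decide (q.2.1 = b)).map fun q => (q.1, q.2.2)

theorem Dq_ev {k : ℕ} (hk : k < 27) (x : I27 → F) :
    Dq (ev k) x = ((quadL k).map fun q => (q.1 : F) * (x (ix q.2.1) * x (ix q.2.2))).sum := by
  unfold Dq quadL
  have hl : ∀ m ∈ monT, m.2.1 < 27 ∧ m.2.2.1 < 27 ∧ m.2.2.2 < 27 := mon_lt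
  revert hl
  induction monT with
  | nil => intro; simp
  | cons m L ih =>
    intro hl
    obtain ⟨l1, l2, l3⟩ := hl m (List.mem_cons_self ..)
    rw [List.map_cons, List.sum_cons, List.flatMap_cons, List.map_append, List.sum_append,
      ih fun z hz => hl z (List.mem_cons_of_mem _ hz), ev_apply hk l1, ev_apply hk l2, ev_apply hk l3]
    split_ifs <;> simp <;> ring

theorem Bt_ev {s : ℕ} (hs : s < 27) (y z : I27 → F) :
    Bt (ev s) y z = ((linL s).map fun q => (q.1 : F) * (y (ix q.2.1) * z (ix q.2.2))).sum := by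
  unfold Bt linL quadL
  have hl : ∀ m ∈ monT, m.2.1 < 27 ∧ m.2.2.1 < 27 ∧ m.2.2.2 < 27 := mon_lt
  revert hl
  induction monT with
  | nil => intro; simp
  | cons m L ih =>
    intro hl
    obtain ⟨l1, l2, l3⟩ := hl m (List.mem_cons_self ..)
    rw [List.map_cons, List.sum_cons, List.flatMap_cons, List.flatMap_append, List.map_append,
      List.sum_append, ih fun z hz => hl z (List.mem_cons_of_mem _ hz), ev_apply hs l1, ev_apply hs l2,
      ev_apply hs l3]
    split_ifs <;> simp <;> ring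

theorem mem_quadL_lt {k : ℕ} {q : ℤ × ℕ × ℕ} (hq : q ∈ quadL k) : q.2.1 < 27 ∧ q.2.2 < 27 := by
  obtain ⟨m, hm, h⟩ := List.mem_flatMap.1 hq
  obtain ⟨l1, l2, l3⟩ := mon_lt m hm
  simp only [List.mem_append, List.mem_ite_nil_right, List.mem_singleton] at h
  rcases h with ⟨-, rfl⟩ | ⟨-, rfl⟩ | ⟨-, rfl⟩ <;> exact ⟨by assumption, by assumption⟩

theorem mem_linL_lt {s : ℕ} {q : ℤ × ℕ × ℕ} (hq : q ∈ linL s) : q.2.1 < 27 ∧ q.2.2 < 27 := by
  obtain ⟨p, hp, h⟩ := List.mem_flatMap.1 hq
  obtain ⟨h1, h2⟩ := mem_quadL_lt hp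
  simp only [List.mem_cons, List.not_mem_nil, or_false] at h
  rcases h with rfl | rfl
  · exact ⟨h1, h2⟩
  · exact ⟨h2, h1⟩

theorem Bt_ev_ev {a b : ℕ} (ha : a < 27) (hb : b < 27) (z : I27 → F) :
    Bt (ev a) (ev b) z = ((duoL a b).map fun q => (q.1 : F) * z (ix q.2)).sum := by
  rw [Bt_ev ha, duoL, List.map_map]
  have hl : ∀ q ∈ linL a, q.2.1 < 27 := fun q hq => (mem_linL_lt hq).1
  revert hl
  induction linL a with
  | nil => intro; simp
  | cons q L ih =>
    intro hl
    rw [List.map_cons, List.sum_cons, ih fun x hx => hl x (List.mem_cons_of_mem _ hx),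
      ev_apply hb (hl q (List.mem_cons_self ..)), List.filter_cons]
    by_cases h : q.2.1 = b <;> simp [h]

theorem mon_distinct : ∀ m ∈ monT, m.2.1 ≠ m.2.2.1 ∧ m.2.1 ≠ m.2.2.2 ∧ m.2.2.1 ≠ m.2.2.2 := by
  decide +kernel

theorem Dq_ev_right (y : I27 → F) {n : ℕ} (hn : n < 27) : Dq y (ev n) = 0 := by
  refine List.sum_eq_zero fun x hx => ?_
  obtain ⟨m, hm, rfl⟩ := List.mem_map.1 hx
  obtain ⟨l1, l2, l3⟩ := mon_lt m hm
  obtain ⟨d1, d2, d3⟩ := mon_distinct m hm
  rw [ev_apply hn l1, ev_apply hn l2, ev_apply hn l3]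
  split_ifs <;> first | omega | (exfalso; omega) | simp

end Cfsg.Agent.E6Iso
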