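import Cfsg.Agent.Lib.E6Iso.Forms

/-!
# Reduction of an isometry of the cubic form to a diagonal one

Twelve steps fix twelve coordinate lines; the hyperplanes determined by pairs of them then force a diagonal
matrix.
-/

set_option autoImplicit false

namespace Cfsg.Agent.E6Iso

open scoped Matrix
open Cfsg.Lie

/-- A single term with a sign at a given coordinate. -/
def isOne (L : List (ℤ × ℕ)) (k : ℕ) : Bool :=
  match L with
  | [q] => (decide (q.1 = 1) || decide (q.1 = -1)) && decide (q.2 = k)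
  | _ => false

/-- Two fixed lines determine the hyperplane of a coordinate. -/
def chkHyp (S : List ℕ) (s s' u : ℕ) : Bool :=
  S.contains s && S.contains s' && decide (u < 27) && isOne (duoL s s') u

/-- The check of the reason for a vanishing coordinate. -/
def chkWhy (S : List ℕ) (w : ℕ) (z : ℕ × Why) : Bool :=
  decide (z.1 < 27) && decide (z.1 ≠ w) &&
  match z.2 with
  | .hyp s s' => chkHyp S s s' z.1
  | .apart s => S.contains s && (duoL s w).isEmpty &&
      match duoL s z.1 with
      | [q] => decide (q.2 < 27) && isOne (duoL s q.2) z.1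
      | _ => false
  | .near s u s1 s2 => S.contains s && isOne (duoL s w) u && chkHyp S s1 s2 u &&
      match duoL s z.1 with
      | [q] => decide (q.2 < 27) && decide (q.2 ≠ u) && isOne (duoL s q.2) z.1
      | _ => false

/-- The root elements of a root fix the given lines. -/
def allowed (S : List ℕ) (r : ℕ) : Bool :=
  decide (r < 72) && (rootN r).all fun e => !S.contains e.2.1

/-- A coordinate has a given single source. -/
def isSrc (r b a : ℕ) : Bool :=
  match srcs r a with
  | [q] => decide (q.1 = b) && (decide (q.2 = 1) || decide (q.2 = -1))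
  | _ => false

/-- The check of a path from a coordinate. -/
def chkPath (S : List ℕ) (w : ℕ) : ℕ → List (ℕ × ℕ × ℕ) → Bool
  | cur, [] => decide (cur = w)
  | cur, m :: l => decide (m.2.1 = cur) && decide (m.2.2 < 27) && allowed S m.1 && isSrc m.1 cur m.2.2 &&
      chkPath S w m.2.2 l

/-- The coordinates from which a path has to start. -/
def seedList (st : Step) : List ℕ :=
  match st.seed with
  | .fresh => (List.range 27).filter fun v => !st.fixd.contains v
  | .cross s => (linL s).map fun q => q.2.1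
  | .hyp _ _ => [st.w]

/-- The check of the source of a nonzero coordinate. -/
def chkSeed (st : Step) : Bool :=
  (match st.seed with
    | .fresh => true
    | .cross s => st.fixd.contains s &&
        match duoL s st.w with
        | [q] => (decide (q.1 = 1) || decide (q.1 = -1)) && decide (q.2 < 27)
        | _ => false
    | .hyp s s' => chkHyp st.fixd s s' st.w) &&
  (seedList st).all fun v => decide (v < 27) && ((st.zero.map Prod.fst).contains v ||
    st.paths.any fun p => decide (p.1 = v) && chkPath st.fixd st.w v p.2)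

/-- The check of the clearing moves. -/
def chkClear (S : List ℕ) (w : ℕ) : List (ℕ × ℕ) → Bool
  | [] => true
  | rv :: l => allowed S rv.1 && decide (rv.2 < 27) && decide (rv.2 ≠ w) && isSrc rv.1 w rv.2 &&
      (srcs rv.1 w).isEmpty && (l.all fun q => (srcs rv.1 q.2).isEmpty) && chkClear S w l

/-- The check of the coordinates killed by the quadratic map. -/
def chkKill (w : ℕ) : List ℕ → List (ℕ × ℕ) → Bool
  | known, [] => (List.range 27).all fun v => decide (v = w) || known.contains v
  | known, vk :: l => decide (vk.1 < 27) && decide (vk.2 < 27) &&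
      (match (quadL vk.2).filter (fun q => !(known.contains q.2.1 || known.contains q.2.2)) with
        | [q] => (decide (q.1 = 1) || decide (q.1 = -1)) &&
            (decide (q.2.1 = w ∧ q.2.2 = vk.1) || decide (q.2.1 = vk.1 ∧ q.2.2 = w))
        | _ => false) && chkKill w (vk.1 :: known) l

/-- The check of a step. -/
def chkStep (st : Step) : Bool :=
  decide (st.w < 27) && !st.fixd.contains st.w && (st.fixd.all fun s => decide (s < 27)) &&
  st.zero.all (chkWhy st.fixd st.w) && chkSeed st && chkClear st.fixd st.w st.clear &&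
  chkKill st.w (st.zero.map Prod.fst ++ st.clear.map Prod.snd) st.kill

/-- The steps follow each other. -/
def chkChain : List ℕ → List Step → Bool
  | S, [] => (List.range 27).all fun n =>
      let p := finalPairs.getD n (0, 0)
      chkHyp S p.1 p.2 n
  | S, st :: l => decide (st.fixd = S) && chkChain (S ++ [st.w]) l

theorem steps_ok : steps.all chkStep = true ∧ chkChain [] steps = true := by decide +kernel

variable {F : Type*} [Field F]

theorem isOne_spec {L : List (ℤ × ℕ)} {k : ℕ} (h : isOne L k = true) :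
    ∃ c : F, c * c = 1 ∧ ∀ z : I27 → F, (L.map fun q => (q.1 : F) * z (ix q.2)).sum = c * z (ix k) := by
  match L, h with
  | [q], h =>
    simp only [isOne, Bool.and_eq_true, Bool.or_eq_true, decide_eq_true_eq] at h
    obtain ⟨hq, rfl⟩ := h
    exact ⟨(q.1 : F), by rcases hq with e | e <;> simp [e], fun z => by simp⟩

theorem isSrc_spec {r b a : ℕ} (h : isSrc r b a = true) :
    ∃ c : F, c * c = 1 ∧ ∀ v : I27 → F, incr r a v = c * v (ix b) := by
  unfold isSrc at h
  split at h
  · next q hq =>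
    simp only [Bool.and_eq_true, Bool.or_eq_true, decide_eq_true_eq] at h
    obtain ⟨rfl, hc⟩ := h
    exact ⟨(q.2 : F), by rcases hc with e | e <;> simp [e], fun v => by simp [incr, hq]⟩
  · exact absurd h (by simp)

theorem incr_eq_zero {r a : ℕ} (h : (srcs r a).isEmpty = true) (v : I27 → F) : incr r a v = 0 := by
  simp [incr, List.isEmpty_iff.1 h]

/-- An isometry fixing the given coordinate lines. -/
structure FixG (g : GL I27 F) (S : List ℕ) : Prop where
  mem : g ∈ E6univ F
  line : ∀ s ∈ S, ∃ c : F, c ≠ 0 ∧ act g (ev s) = c • ev s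

/-- An element of the root group fixing the given vectors. -/
def Fixer (S : List ℕ) (e : GL I27 F) : Prop :=
  e ∈ rootGroup F ∧ ∀ s ∈ S, act e (ev s) = ev s

theorem Fixer.one (S : List ℕ) : Fixer (F := F) S 1 := ⟨one_mem _, fun _ _ => act_one _⟩

theorem Fixer.mul {S : List ℕ} {e e' : GL I27 F} (h : Fixer S e) (h' : Fixer S e') : Fixer S (e * e') :=
  ⟨mul_mem h.1 h'.1, fun s hs => by rw [act_mul, h'.2 s hs, h.2 s hs]⟩

theorem FixG.mul_left {S : List ℕ} {g e : GL I27 F} (hg : FixG g S) (he : Fixer S e) : FixG (e * g) S :=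
  ⟨mul_mem (rootGroup_le_univ he.1) hg.mem, fun s hs => by
    obtain ⟨c, hc, h⟩ := hg.line s hs
    exact ⟨c, hc, by rw [act_mul, h, act_smul, he.2 s hs]⟩⟩

theorem fixer_xel {S : List ℕ} {r : ℕ} (hS : ∀ s ∈ S, s < 27) (h : allowed S r = true) (t : F) :
    Fixer S (xel r t) := by
  simp only [allowed, Bool.and_eq_true, decide_eq_true_eq, List.all_eq_true, Bool.not_eq_true',
    List.contains_eq_mem, decide_eq_false_iff_not] at h
  refine ⟨xel_mem_rootGroup h.1 t, fun s hs => funext_ix fun a ha => ?_⟩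
  rw [act_xel r t _ ha, incr]
  rw [List.sum_eq_zero (fun x hx => ?_), mul_zero, add_zero]
  obtain ⟨q, hq, rfl⟩ := List.mem_map.1 hx
  simp only [srcs, List.mem_map, List.mem_filter] at hq
  obtain ⟨e, ⟨he, -⟩, rfl⟩ := hq
  have hlt : e.2.1 < 27 := by
    have := List.all_eq_true.1 (rootN_inRange r) e he
    exact (of_decide_eq_true this).2
  have hne : e.2.1 ≠ s := fun h' => h.2 e he (by rw [h']; exact hs)
  rw [ev_apply (hS s hs) hlt, if_neg hne, mul_zero]

section Facts

variable {u : F} (hu0 : u ≠ 0) (hu1 : u ≠ 1) {S : List ℕ} {g : GL I27 F} (hg : FixG g S)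
  (hS : ∀ s ∈ S, s < 27)
include hu0 hu1 hg hS

theorem hyp_spec {s s' k : ℕ} (h : chkHyp S s s' k = true) :
    ∃ l : F, l ≠ 0 ∧ ∀ x : I27 → F, act g x (ix k) = l * x (ix k) := by
  simp only [chkHyp, Bool.and_eq_true, List.contains_eq_mem, decide_eq_true_eq] at h
  obtain ⟨⟨⟨h1, h2⟩, hk⟩, h3⟩ := h
  obtain ⟨a, ha, ea⟩ := hg.line s h1
  obtain ⟨b, hb, eb⟩ := hg.line s' h2
  obtain ⟨c, hc, hcz⟩ := isOne_spec (F := F) h3
  have hc0 : c ≠ 0 := fun e => by simp [e] at hc
  refine ⟨(a * b)⁻¹, inv_ne_zero (mul_ne_zero ha hb), fun x => ?_⟩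
  have h := Bt_act hg.mem hu0 hu1 (ev s) (ev s') x
  rw [ea, eb, Bt_smul₁, Bt_smul₂, Bt_ev_ev (hS s h1) (hS s' h2), Bt_ev_ev (hS s h1) (hS s' h2), hcz,
    hcz] at h
  have h' : c * (a * b * act g x (ix k) - x (ix k)) = 0 := by linear_combination h
  have h'' := sub_eq_zero.1 ((mul_eq_zero.1 h').resolve_left hc0)
  rw [← h'']
  field_simp

theorem why_spec {w : ℕ} (hw : w < 27) {z : ℕ × Why} (h : chkWhy S w z = true) :
    act g (ev w) (ix z.1) = 0 := by
  obtain ⟨v, why⟩ := z
  simp only [chkWhy, Bool.and_eq_true, decide_eq_true_eq] at h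
  obtain ⟨⟨hv, hvw⟩, h⟩ := h
  cases why with
  | hyp s s' =>
    obtain ⟨l, -, hl⟩ := hyp_spec hu0 hu1 hg hS h
    rw [hl, ev_apply hw hv, if_neg hvw, mul_zero]
  | apart s =>
    simp only [Bool.and_eq_true, List.contains_eq_mem, decide_eq_true_eq, List.isEmpty_iff] at h
    obtain ⟨⟨hs, he⟩, h⟩ := h
    split at h
    · next q _ =>
      simp only [Bool.and_eq_true, decide_eq_true_eq] at h
      obtain ⟨c, hc, hcz⟩ := isOne_spec (F := F) h.2
      obtain ⟨a, ha, ea⟩ := hg.line s hs
      have h0 := Bt_act hg.mem hu0 hu1 (ev s) (act g⁻¹ (ev q.2)) (ev w)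
      rw [ea, act_self_inv, Bt_smul₁, Bt_ev_ev (hS s hs) h.1, hcz, Bt_comm (ev s) (act g⁻¹ (ev q.2)) (ev w),
        Bt_ev_ev (hS s hs) hw, he, List.map_nil, List.sum_nil] at h0
      rcases mul_eq_zero.1 h0 with e | e
      · exact absurd e ha
      · exact (mul_eq_zero.1 e).resolve_left fun e => by simp [e] at hc
    · exact absurd h (by simp)
  | near s k s1 s2 =>
    simp only [Bool.and_eq_true, List.contains_eq_mem, decide_eq_true_eq] at h
    obtain ⟨⟨⟨hs, hk⟩, hh⟩, h⟩ := h
    obtain ⟨l, hl0, hl⟩ := hyp_spec hu0 hu1 hg hS hh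
    have hklt : k < 27 := by
      simp only [chkHyp, Bool.and_eq_true, decide_eq_true_eq] at hh; exact hh.1.2
    split at h
    · next q _ =>
      simp only [Bool.and_eq_true, decide_eq_true_eq] at h
      obtain ⟨⟨hq, hqk⟩, h3⟩ := h
      obtain ⟨c, hc, hcz⟩ := isOne_spec (F := F) h3
      obtain ⟨d, hd, hdz⟩ := isOne_spec (F := F) hk
      obtain ⟨a, ha, ea⟩ := hg.line s hs
      have hy : act g⁻¹ (ev (F := F) q.2) (ix k) = 0 := by
        have := hl (act g⁻¹ (ev q.2))
        rw [act_self_inv, ev_apply hq hklt, if_neg (Ne.symm hqk)] at this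
        exact (mul_eq_zero.1 this.symm).resolve_left hl0
      have h0 := Bt_act hg.mem hu0 hu1 (ev s) (act g⁻¹ (ev q.2)) (ev w)
      rw [ea, act_self_inv, Bt_smul₁, Bt_ev_ev (hS s hs) hq, hcz, Bt_comm (ev s) (act g⁻¹ (ev q.2)) (ev w),
        Bt_ev_ev (hS s hs) hw, hdz, hy, mul_zero] at h0
      rcases mul_eq_zero.1 h0 with e | e
      · exact absurd e ha
      · exact (mul_eq_zero.1 e).resolve_left fun e => by simp [e] at hc
    · exact absurd h (by simp)

end Facts

theorem exists_path {S : List ℕ} (hS : ∀ s ∈ S, s < 27) {w : ℕ} : ∀ (p : List (ℕ × ℕ × ℕ)) (cur : ℕ),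
    chkPath S w cur p = true → ∀ x : I27 → F, x (ix cur) ≠ 0 →
      ∃ e, Fixer S e ∧ act e x (ix w) ≠ 0
  | [], cur, h, x, hx => by
    simp only [chkPath, decide_eq_true_eq] at h
    exact ⟨1, Fixer.one S, by rwa [act_one, ← h]⟩
  | m :: l, cur, h, x, hx => by
    simp only [chkPath, Bool.and_eq_true, decide_eq_true_eq] at h
    obtain ⟨⟨⟨⟨-, hlt⟩, hal⟩, hsrc⟩, hl⟩ := h
    obtain ⟨c, hc, hcv⟩ := isSrc_spec (F := F) hsrc
    obtain ⟨t, ht⟩ : ∃ t : F, act (xel m.1 t) x (ix m.2.2) ≠ 0 := by
      by_cases h0 : x (ix m.2.2) = 0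
      · refine ⟨1, ?_⟩
        rw [act_xel _ _ _ hlt, hcv, h0, zero_add, one_mul]
        exact mul_ne_zero (fun e => by simp [e] at hc) hx
      · exact ⟨0, by rw [act_xel _ _ _ hlt, zero_mul, add_zero]; exact h0⟩
    obtain ⟨e, he, hex⟩ := exists_path hS l m.2.2 hl _ ht
    exact ⟨e * xel m.1 t, he.mul (fixer_xel hS hal t), by rwa [act_mul]⟩

theorem exists_clear {S : List ℕ} (hS : ∀ s ∈ S, s < 27) {w : ℕ} (hw : w < 27) :
    ∀ (l : List (ℕ × ℕ)), chkClear S w l = true → ∀ x : I27 → F, x (ix w) ≠ 0 →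
      ∃ e, Fixer S e ∧ act e x (ix w) = x (ix w) ∧ ∀ q ∈ l, q.2 < 27 ∧ act e x (ix q.2) = 0
  | [], _, x, _ => ⟨1, Fixer.one S, by rw [act_one], fun q hq => nomatch hq⟩
  | rv :: l, h, x, hx => by
    simp only [chkClear, Bool.and_eq_true, decide_eq_true_eq, List.all_eq_true] at h
    obtain ⟨⟨⟨⟨⟨⟨hal, hlt⟩, -⟩, hsrc⟩, hw0⟩, hrest⟩, hl⟩ := h
    obtain ⟨e, he, hew, hel⟩ := exists_clear hS hw l hl x hx
    obtain ⟨c, hc, hcv⟩ := isSrc_spec (F := F) hsrc
    have hc0 : c ≠ 0 := fun e => by simp [e] at hc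
    refine ⟨xel rv.1 (-(act e x (ix rv.2)) / (c * x (ix w))) * e, (fixer_xel hS hal _).mul he, ?_, ?_⟩
    · rw [act_mul, act_xel _ _ _ hw, incr_eq_zero hw0, mul_zero, add_zero, hew]
    · intro q hq
      rcases List.mem_cons.1 hq with rfl | hq
      · refine ⟨hlt, ?_⟩
        rw [act_mul, act_xel _ _ _ hlt, hcv, hew]
        field_simp
        ring
      · obtain ⟨hq1, hq2⟩ := hel q hq
        exact ⟨hq1, by rw [act_mul, act_xel _ _ _ hq1, incr_eq_zero (hrest q hq), mul_zero, add_zero, hq2]⟩

theorem kill_spec {w : ℕ} {x : I27 → F} (hx : ∀ k < 27, Dq (ev k) x = 0) (hxw : x (ix w) ≠ 0) :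
    ∀ (l : List (ℕ × ℕ)) (known : List ℕ), chkKill w known l = true → (∀ v ∈ known, x (ix v) = 0) →
      ∀ v < 27, v ≠ w → x (ix v) = 0
  | [], known, h, hk, v, hv, hvw => by
    simp only [chkKill, List.all_eq_true, Bool.or_eq_true, decide_eq_true_eq, List.contains_eq_mem] at h
    exact hk v ((h v (List.mem_range.2 hv)).resolve_left hvw)
  | vk :: l, known, h, hk, v, hv, hvw => by
    simp only [chkKill, Bool.and_eq_true, decide_eq_true_eq] at h
    obtain ⟨⟨⟨-, hk2⟩, hm⟩, hl⟩ := h
    refine kill_spec hx hxw l _ hl (fun a ha => ?_) v hv hvw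
    rcases List.mem_cons.1 ha with rfl | ha
    swap
    · exact hk a ha
    split at hm
    · next q hq =>
      simp only [Bool.and_eq_true, Bool.or_eq_true, decide_eq_true_eq] at hm
      have hsum : ((quadL vk.2).map fun q => (q.1 : F) * (x (ix q.2.1) * x (ix q.2.2))).sum =
          (((quadL vk.2).filter fun q => !(known.contains q.2.1 || known.contains q.2.2)).map
            fun q => (q.1 : F) * (x (ix q.2.1) * x (ix q.2.2))).sum := by
        induction quadL vk.2 with
        | nil => rfl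
        | cons p L ih =>
          rw [List.map_cons, List.sum_cons, ih, List.filter_cons]
          by_cases hp : (known.contains p.2.1 || known.contains p.2.2) = true
          · rw [hp]
            simp only [Bool.or_eq_true, List.contains_eq_mem, decide_eq_true_eq] at hp
            rcases hp with e | e <;> simp [hk _ e]
          · simp only [Bool.not_eq_true] at hp
            rw [hp]
            simp
      have h0 := hx vk.2 hk2
      rw [Dq_ev hk2, hsum, hq, List.map_singleton, List.sum_singleton] at h0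
      have hq0 : (q.1 : F) ≠ 0 := by rcases hm.1 with e | e <;> simp [e]
      rcases hm.2 with ⟨e1, e2⟩ | ⟨e1, e2⟩
      · rw [e1, e2] at h0
        exact (mul_eq_zero.1 ((mul_eq_zero.1 h0).resolve_left hq0)).resolve_left hxw
      · rw [e1, e2] at h0
        exact (mul_eq_zero.1 ((mul_eq_zero.1 h0).resolve_left hq0)).resolve_right hxw
    · exact absurd hm (by simp)

theorem exists_step {u : F} (hu0 : u ≠ 0) (hu1 : u ≠ 1) {st : Step} (h : chkStep st = true)
    {g : GL I27 F} (hg : FixG g st.fixd) :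
    ∃ e ∈ rootGroup F, FixG (e * g) (st.fixd ++ [st.w]) := by
  simp only [chkStep, Bool.and_eq_true, decide_eq_true_eq, List.all_eq_true, Bool.not_eq_true',
    List.contains_eq_mem, decide_eq_false_iff_not] at h
  obtain ⟨⟨⟨⟨⟨⟨hw, hwS⟩, hS⟩, hz⟩, hseed⟩, hclr⟩, hkill⟩ := h
  -- a nonzero coordinate with a path
  obtain ⟨v, hv, hvx⟩ : ∃ v ∈ seedList st, act g (ev st.w) (ix v) ≠ 0 := by
    by_contra hcon
    simp only [not_exists, not_and, not_not] at hcon
    simp only [chkSeed, Bool.and_eq_true] at hseed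
    obtain ⟨hseed, -⟩ := hseed
    cases hsd : st.seed with
    | fresh =>
      rw [seedList, hsd] at hcon
      have h1 : act g⁻¹ (act g (ev st.w)) (ix st.w) = 1 := by
        rw [act_inv_self, ev_apply hw hw, if_pos rfl]
      rw [act_eq, Finset.sum_eq_zero] at h1
      · exact zero_ne_one h1
      intro b _
      rcases eq_or_ne (act g (ev st.w) b) 0 with e | e
      · rw [e, mul_zero]
      have hb : cd b ∈ st.fixd := by
        by_contra hb
        refine e ?_
        have := hcon (cd b) (List.mem_filter.2 ⟨List.mem_range.2 (cd_lt b), by simpa using hb⟩)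
        rwa [ix_cd] at this
      obtain ⟨c, hc, hcb⟩ := hg.line _ hb
      have hinv : act g⁻¹ (ev (cd b)) = c⁻¹ • ev (F := F) (cd b) := by
        have := congrArg (act g⁻¹) hcb
        rw [act_inv_self, act_smul] at this
        rw [eq_comm, inv_smul_eq_iff₀ hc]
        exact this
      have h2 := congrFun hinv (ix st.w)
      have hne : st.w ≠ cd b := fun h' => hwS (by rw [h']; exact hb)
      rw [act_ev, ix_cd, Pi.smul_apply, ev_apply (cd_lt b) hw, if_neg hne,
        smul_zero] at h2
      rw [h2, zero_mul]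
    | cross s =>
      rw [seedList, hsd] at hcon
      rw [hsd] at hseed
      simp only [Bool.and_eq_true, List.contains_eq_mem, decide_eq_true_eq] at hseed
      obtain ⟨hs, hseed⟩ := hseed
      split at hseed
      · next q hq =>
        simp only [Bool.and_eq_true, Bool.or_eq_true, decide_eq_true_eq] at hseed
        obtain ⟨a, ha, ea⟩ := hg.line s hs
        have h0 := Bt_act hg.mem hu0 hu1 (ev s) (ev st.w) (ev q.2)
        rw [ea, Bt_smul₁, Bt_ev (hS s hs), Bt_ev_ev (hS s hs) hw, hq, List.map_singleton,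
          List.sum_singleton, ev_apply hseed.2 hseed.2, if_pos rfl, mul_one, List.sum_eq_zero, mul_zero] at h0
        · rcases hseed.1 with e | e <;> simp [e] at h0
        intro y hy
        obtain ⟨p, hp, rfl⟩ := List.mem_map.1 hy
        rw [hcon p.2.1 (List.mem_map.2 ⟨p, hp, rfl⟩), zero_mul, mul_zero]
      · exact absurd hseed (by simp)
    | hyp s s' =>
      rw [seedList, hsd] at hcon
      rw [hsd] at hseed
      obtain ⟨l, hl0, hl⟩ := hyp_spec hu0 hu1 hg hS hseed
      have := hcon st.w (List.mem_singleton.2 rfl)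
      rw [hl, ev_apply hw hw, if_pos rfl, mul_one] at this
      exact hl0 this
  simp only [chkSeed, Bool.and_eq_true, List.all_eq_true, decide_eq_true_eq, Bool.or_eq_true,
    List.contains_eq_mem, List.any_eq_true] at hseed
  obtain ⟨-, hseed⟩ := hseed
  obtain ⟨-, hvz | ⟨p, -, -, hp⟩⟩ := hseed v hv
  · obtain ⟨z, hzm, rfl⟩ := List.mem_map.1 hvz
    exact absurd (why_spec hu0 hu1 hg hS hw (hz z hzm)) hvx
  obtain ⟨e₁, he₁, hx₁⟩ := exists_path hS p.2 v hp _ hvx
  rw [← act_mul] at hx₁
  obtain ⟨e₂, he₂, hx₂, hclr'⟩ := exists_clear hS hw st.clear hclr _ hx₁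
  have hg' : FixG (e₂ * (e₁ * g)) st.fixd := (hg.mul_left he₁).mul_left he₂
  set x := act (e₂ * (e₁ * g)) (ev (F := F) st.w) with hxdef
  have hxw : x (ix st.w) ≠ 0 := by rw [hxdef, act_mul, hx₂]; exact hx₁
  have hquad : ∀ k < 27, Dq (ev k) x = 0 := fun k hk => by
    have := Dq_act hg'.mem hu0 hu1 (act (e₂ * (e₁ * g))⁻¹ (ev k)) (ev st.w)
    rwa [act_self_inv, Dq_ev_right _ hw] at this
  have hzero : ∀ v < 27, v ≠ st.w → x (ix v) = 0 := by
    refine kill_spec hquad hxw st.kill _ hkill fun a ha => ?_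
    rcases List.mem_append.1 ha with ha | ha
    · obtain ⟨z, hzm, rfl⟩ := List.mem_map.1 ha
      exact why_spec hu0 hu1 hg' hS hw (hz z hzm)
    · obtain ⟨q, hqm, rfl⟩ := List.mem_map.1 ha
      rw [hxdef, act_mul]
      exact (hclr' q hqm).2
  refine ⟨e₂ * e₁, mul_mem he₂.1 he₁.1, by rw [mul_assoc]; exact hg'.mem, fun s hs => ?_⟩
  rw [mul_assoc]
  rcases List.mem_append.1 hs with hs | hs
  · exact hg'.line s hs
  · obtain rfl := List.mem_singleton.1 hs
    exact ⟨_, hxw, smul_ev_of_coords hw hzero⟩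

theorem chain_spec {u : F} (hu0 : u ≠ 0) (hu1 : u ≠ 1) : ∀ (l : List Step) (S : List ℕ),
    (∀ st ∈ l, chkStep st = true) → chkChain S l = true → (∀ s ∈ S, s < 27) → ∀ g : GL I27 F, FixG g S →
      ∃ e ∈ rootGroup F, e * g ∈ E6univ F ∧
        ∀ n < 27, ∃ c : F, c ≠ 0 ∧ ∀ x : I27 → F, act (e * g) x (ix n) = c * x (ix n)
  | [], S, _, h, hS, g, hg => by
    refine ⟨1, one_mem _, by rw [one_mul]; exact hg.mem, fun n hn => ?_⟩
    rw [one_mul]
    exact hyp_spec hu0 hu1 hg hS (List.all_eq_true.1 h n (List.mem_range.2 hn))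
  | st :: l, S, hl, h, hS, g, hg => by
    simp only [chkChain, Bool.and_eq_true, decide_eq_true_eq] at h
    obtain ⟨rfl, h⟩ := h
    have hst := hl st (List.mem_cons_self ..)
    obtain ⟨e, he, hfix⟩ := exists_step hu0 hu1 hst hg
    have hw : st.w < 27 := by
      simp only [chkStep, Bool.and_eq_true, decide_eq_true_eq] at hst; exact hst.1.1.1.1.1.1
    obtain ⟨e', he', hm, hd⟩ := chain_spec hu0 hu1 l _ (fun s hs => hl s (List.mem_cons_of_mem _ hs)) h
      (fun s hs => by
        rcases List.mem_append.1 hs with hs | hs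
        · exact hS s hs
        · rw [List.mem_singleton.1 hs]; exact hw) _ hfix
    refine ⟨e' * e, mul_mem he' he, by rw [mul_assoc]; exact hm, fun n hn => ?_⟩
    obtain ⟨c, hc, hx⟩ := hd n hn
    exact ⟨c, hc, fun x => by rw [mul_assoc]; exact hx x⟩

/-- Every isometry is a root group element times a diagonal isometry. -/
theorem exists_diag {u : F} (hu0 : u ≠ 0) (hu1 : u ≠ 1) {g : GL I27 F} (hg : g ∈ E6univ F) :
    ∃ e ∈ rootGroup F, e * g ∈ E6univ F ∧
      ∀ n < 27, ∃ c : F, c ≠ 0 ∧ ∀ x : I27 → F, act (e * g) x (ix n) = c * x (ix n) :=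
  chain_spec hu0 hu1 steps [] (List.all_eq_true.1 steps_ok.1) steps_ok.2 (fun s hs => nomatch hs) g
    ⟨hg, fun s hs => nomatch hs⟩

end Cfsg.Agent.E6Iso
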